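import Cfsg.Agent.R2.P3.Tor3
import Cfsg.Agent.R2.P3.Pat3
import Cfsg.Agent.R2.H14.T.Main

/-!
# The case `p = 3`, `q ≥ 27` (R2/P3, helper17)

`false_three` : no configuration with `p = 3`, `a ≥ 3`.
-/

set_option autoImplicit false
set_option linter.unusedSectionVars false

namespace Cfsg.Agent.R2.P3

open Matrix Cfsg.Agent.H943.SL2Rel Cfsg.Agent.H943.SL2Mod Cfsg.Agent.H943.RepAdd Cfsg.Agent.R2.H28.SL2
open Cfsg.Lie
open Cfsg.Agent.ChevalleyStructure.E6Min.Basic (Zgrp)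
open Cfsg.Agent.H163.E6 (V V')
open Cfsg.Agent.H65.E6Emb
open Cfsg.Agent.R2.H9.E6
open Cfsg.Agent.R2.H14.T
open Cfsg.Agent.R2.GEO (Pair)
open Cfsg.Agent.R2.SL2 (typ tyl listE6_3)

universe u v w

variable {k : Type u} [Field k] [DecidableEq k] [IsAlgClosed k] {K : Type w} [Field K] [Fintype K] [DecidableEq K]
  (ι : K →+* k) [CharP k 3] [CharP K 3] {a b : ℕ}
variable {F : Type v} [Field F] [Fintype F] (f0 : F →+* k)
variable {Γ M : Subgroup ↥(Zgrp F)} {ψ : ProjectiveSpecialLinearGroup (Fin 2) K →* ↥(Zgrp F)}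

/-- **all submodules have type `22`** -/
theorem S22.false (hC : Cfg 3 a b Γ M ψ) (ha : 3 ≤ a) (S : S22 ι a ((emb f0).comp (ψ.comp pq)) (V k) (V' k)) :
    False := by
  obtain ⟨X₀, X₁, X₂, p, q, r, Φ₀, Φ₁, Φ₂, n1, n2, n3, T₀, T₁, T₂⟩ := S.exists_triangle
  have hF := S.fra.card
  have D : Dg3 3 a ![r, q, p] := by
    refine ⟨Or.inl rfl, ?_, ?_⟩
    · intro c d h
      fin_cases c <;> fin_cases d
      · rfl
      · exact absurd h n3.symm
      · exact absurd h n2.symm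
      · exact absurd h n3
      · rfl
      · exact absurd h n1.symm
      · exact absurd h n2
      · exact absurd h n1
      · rfl
    · intro c
      fin_cases c
      · exact T₁.P.hj
      · exact T₀.P.hj
      · exact T₀.P.hi
  have hX : ∀ (c : Fin 3) (g : SpecialLinearGroup (Fin 2) K), ∀ x ∈ (![X₀, X₁, X₂] : Fin 3 → Submodule k (I27 → k)) c,
      Rr (V k) ((emb f0).comp (ψ.comp pq)) g x ∈ (![X₀, X₁, X₂] : Fin 3 → Submodule k (I27 → k)) c := by
    intro c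
    fin_cases c
    · exact T₀.st
    · exact T₁.st
    · exact T₂.st
  have hV : ∀ c : Fin 3, IsV ι 3 (subRep (Rr (V k) ((emb f0).comp (ψ.comp pq)))
      ((![X₀, X₁, X₂] : Fin 3 → Submodule k (I27 → k)) c) (hX c)) (bw 3 ![r, q, p] c) := by
    intro c
    fin_cases c
    · exact T₀.symm.isv
    · exact T₁.isv
    · exact T₂.symm.isv
  obtain ⟨φ, T, -, -⟩ := exists_TT ι (Rr (V k) ((emb f0).comp (ψ.comp pq))) hF D (by
    rw [Module.finrank_fintype_fun_eq_card]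
    decide) _ hX hV
  exact false_of_torH ι f0 hC D T (torH3 S ha D T)

/-- **the case `p = 3`, `q ≥ 27`** -/
theorem false_three (hC : Cfg 3 a b Γ M ψ) (ha : 3 ≤ a) (f : Fra 3 a ((emb f0).comp (ψ.comp pq)) (V k) (V' k))
    (n1 : Nts (Rr (V k) ((emb f0).comp (ψ.comp pq)))) (n2 : Nts (Rr (V' k) ((emb f0).comp (ψ.comp pq))))
    {W : List (List ℕ)} (hW : W ∈ listE6_3) (hw : (W : Multiset (List ℕ)) =
      (cf (Sy.{u, u, w} ι 3) (Rr (V k) ((emb f0).comp (ψ.comp pq)))).map (tyl 3)) : False :=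
  S22.false ι f0 hC ha (S22.of_pat f ha n1 n2 hW hw)

end Cfsg.Agent.R2.P3
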