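import Cfsg.Agent.R2.P3.Hm
import Cfsg.Agent.R2.H28.SL2.Fra

/-!
# The cubic form and the trilinear form on modules `V_b` (R2/P3, helper17)

* `wt_eq`, `Wt`, `bf_wt` : weights; `pair_lt_Q`;
* `gen_tri` : invariant trilinear forms;
* `Trr Φ Φ' Φ''` : `tf (cr (Φ f) (Φ' f')) (Φ'' f'')`; `Trr_inv`, `Trr_wt`;
* `N_zero` : the cubic form vanishes on `Φ(V_b)` if the trilinear form does (`p = 3`).
-/

set_option autoImplicit false
set_option linter.unusedSectionVars false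

namespace Cfsg.Agent.R2.P3

open Matrix Cfsg.Agent.H943.SL2Rel Cfsg.Agent.H943.SL2Mod Cfsg.Agent.H943.RepAdd Cfsg.Agent.R2.H28.SL2
open Cfsg.Lie
open Cfsg.Agent.ChevalleyStructure.E6Min.Basic (Zgrp)
open Cfsg.Agent.ChevalleyStructure.E6Min.Inv
open Cfsg.Agent.H952.F4 (sh cr tf)
open Cfsg.Agent.H952.F4.Jord
open Cfsg.Agent.H163.E6 (V V')
open Cfsg.Agent.H163.E6.Act
open Cfsg.Agent.R2.GEO (Pair crB crB_apply tfB tfB_apply)

universe u v w

/-! ### arithmetic -/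

theorem pair_lt_Q {a i j : ℕ} (ha : 3 ≤ a) (hij : i ≠ j) (hi : i < a) (hj : j < a) :
    2 * 3 ^ i + 2 * 3 ^ j < 3 ^ a - 1 := by
  have key : ∀ {i j : ℕ}, i < j → j < a → 2 * 3 ^ i + 2 * 3 ^ j < 3 ^ a - 1 := by
    intro i j hij hj
    obtain ⟨d, rfl⟩ : ∃ d, a = d + 1 := ⟨a - 1, by omega⟩
    obtain ⟨e, rfl⟩ : ∃ e, d = e + 1 := ⟨d - 1, by omega⟩
    have h1 : 3 ^ i ≤ 3 ^ e := Nat.pow_le_pow_right (by norm_num) (by omega)
    have h2 : 3 ^ j ≤ 3 ^ (e + 1) := Nat.pow_le_pow_right (by norm_num) (by omega)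
    have h3 : 3 ^ 1 ≤ 3 ^ e := Nat.pow_le_pow_right (by norm_num) (by omega)
    rw [pow_one] at h3
    rw [pow_succ] at h2
    rw [pow_succ, pow_succ]
    omega
  rcases Nat.lt_or_gt_of_ne hij with h | h
  · exact key h hj
  · rw [add_comm]
    exact key h hi

section Wt

variable {k : Type u} [Field k] {F : Type w} [Field F] [Fintype F] [DecidableEq F] (ι : F →+* k)

theorem wt_eq {M N : ℕ} (h : ∀ a : Fˣ, ι a ^ M = ι a ^ N) : M % (Fintype.card F - 1) = N % (Fintype.card F - 1) := by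
  classical
  obtain ⟨lam, hlam⟩ := IsCyclic.exists_generator (α := Fˣ)
  have h1 := primitive ι ι.injective hlam
  have h2 := h lam
  obtain ⟨Q, hQ⟩ : ∃ Q, Q = Fintype.card F - 1 := ⟨_, rfl⟩
  have hq := one_lt (F := F)
  rw [← hQ] at h1 ⊢
  have hQ0 : 0 < Q := by omega
  have key : ∀ n, (ι lam : k) ^ n = ι lam ^ (n % Q) := fun n => by
    nth_rewrite 1 [← Nat.div_add_mod n Q]
    rw [pow_add, pow_mul, h1.pow_eq_one, one_pow, one_mul]
  rw [key M, key N] at h2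
  exact h1.pow_inj (Nat.mod_lt _ hQ0) (Nat.mod_lt _ hQ0) h2

variable {V : Type*} [AddCommGroup V] [Module k V]

/-- weights -/
def Wt (r : Representation k (SpecialLinearGroup (Fin 2) F) V) (x : V) (m n : ℕ) : Prop :=
  ∀ a, r (h a) x = (ι a ^ m * (ι a)⁻¹ ^ n) • x

variable {ι}

theorem pow_inv_eq {x : k} (hx : x ≠ 0) {m n : ℕ} : x ^ m * x⁻¹ ^ n = 1 → x ^ m = x ^ n := by
  intro h
  rw [inv_pow] at h
  exact (mul_inv_eq_one₀ (pow_ne_zero n hx)).1 h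

theorem iota_ne (a : Fˣ) : (ι a : k) ≠ 0 := by
  rw [Ne, map_eq_zero]
  exact a.ne_zero

theorem Wt.of_pow {r : Representation k (SpecialLinearGroup (Fin 2) F) V} {x : V} {m : ℕ}
    (h : ∀ a, r (h a) x = ι a ^ m • x) : Wt ι r x m 0 := fun a => by
  rw [h, pow_zero, mul_one]

/-- a vector of weight zero -/
theorem Wt.fix {r : Representation k (SpecialLinearGroup (Fin 2) F) V} {x : V} {m : ℕ} (hw : Wt ι r x m m) (a : Fˣ) :
    r (h a) x = x := by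
  rw [hw, inv_pow, mul_inv_cancel₀ (pow_ne_zero _ (iota_ne a)), one_smul]

variable (p : ℕ) [Fact p.Prime] [CharP k p] [CharP F p] (ι)

theorem xi_wt (i : ℕ) (x : ℕ) : Wt ι (fRep k F) (xi ι p i ^ x) (x * p ^ i) 0 := by
  intro a
  rw [fRep_pow, fRep_h_xi, smul_pow, ← pow_mul, mul_comm x, pow_zero, mul_one]

theorem et_wt (i : ℕ) (x : ℕ) : Wt ι (fRep k F) (et ι p i ^ x) 0 (x * p ^ i) := by
  intro a
  rw [fRep_pow, fRep_h_et, smul_pow, ← pow_mul, mul_comm x, pow_zero, one_mul]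

omit [Fact p.Prime] [CharP k p] [CharP F p] in
theorem Wt.mul {f f' : F × F → k} {m n m' n' : ℕ} (h : Wt ι (fRep k F) f m n) (h' : Wt ι (fRep k F) f' m' n') :
    Wt ι (fRep k F) (f * f') (m + m') (n + n') := by
  intro a
  rw [fRep_mul, h, h', smul_mul_smul_comm, pow_add, pow_add]
  congr 1
  ring

theorem bf_wt (i j : ℕ) (c d x y : ℕ) : Wt ι (fRep k F) (bf ι p i j c d x y) (x * p ^ i + y * p ^ j)
    ((c - x) * p ^ i + (d - y) * p ^ j) := by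
  have h1 := ((xi_wt ι p i x).mul ι (et_wt ι p i (c - x))).mul ι ((xi_wt ι p j y).mul ι (et_wt ι p j (d - y)))
  rwa [add_zero, zero_add, add_zero, zero_add] at h1

end Wt

section Gen

variable {k : Type u} [Field k] {F : Type w} [Field F] [Fintype F] [DecidableEq F] {ι : F →+* k}

/-- **invariant trilinear forms** -/
theorem gen_tri {b b' b'' : ℕ} {T : (F × F → k) →ₗ[k] (F × F → k) →ₗ[k] (F × F → k) →ₗ[k] k}
    (hT : ∀ g, ∀ f ∈ Vb ι b, ∀ f' ∈ Vb ι b', ∀ f'' ∈ Vb ι b'', T (fRep k F g f) (fRep k F g f') (fRep k F g f'') = T f f' f'')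
    (hi' : ∀ g, ∀ f ∈ Vb ι b', fRep k F g f ∈ Vb ι b') (hi'' : ∀ g, ∀ f ∈ Vb ι b'', fRep k F g f ∈ Vb ι b'')
    (hm : mon ι b b ∈ Vb ι b) (hm' : mon ι b' b' ∈ Vb ι b')
    (h0 : ∀ f'' ∈ Vb ι b'', T (mon ι b b) (fRep k F w (mon ι b' b')) f'' = 0) :
    ∀ f ∈ Vb ι b, ∀ f' ∈ Vb ι b', ∀ f'' ∈ Vb ι b'', T f f' f'' = 0 := by
  have hfix : ∀ t : F, fRep k F (u t) (mon ι b b) = mon ι b b := by
    intro t
    funext z
    obtain ⟨x, y⟩ := z
    rw [fRep_u, mon_self, mon_self]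
  have hinv : ∀ (g : SpecialLinearGroup (Fin 2) F) (f : F × F → k), fRep k F g (fRep k F g⁻¹ f) = f := by
    intro g f
    rw [← Module.End.mul_apply, ← map_mul, mul_inv_cancel, map_one, Module.End.one_apply]
  have h1 : ∀ f' ∈ Vb ι b', ∀ f'' ∈ Vb ι b'', T (mon ι b b) f' f'' = 0 := by
    intro f' hf' f'' hf''
    have hle : Vb ι b' ≤ LinearMap.ker ((T (mon ι b b)).flip f'') := by
      refine Submodule.span_le.2 ?_
      rintro _ ⟨t, d, hd, rfl⟩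
      obtain ⟨c, rfl⟩ := Submodule.mem_span_singleton.1 hd
      rw [SetLike.mem_coe, LinearMap.mem_ker, map_smul, map_smul, map_smul, LinearMap.flip_apply]
      have h2 := hT (u t) _ hm _ (hi' w _ hm') _ (hi'' (u t)⁻¹ _ hf'')
      rw [hfix, h0 _ (hi'' _ _ hf''), hinv] at h2
      rw [h2, smul_zero]
    exact LinearMap.mem_ker.1 (hle hf')
  intro f hf f' hf' f'' hf''
  have hle : Vb ι b ≤ LinearMap.ker ((T.flip f').flip f'') := by
    refine Submodule.span_le.2 ?_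
    rintro _ ⟨t, d, hd, rfl⟩
    obtain ⟨c, rfl⟩ := Submodule.mem_span_singleton.1 hd
    rw [SetLike.mem_coe, LinearMap.mem_ker, map_smul, map_smul, map_smul, LinearMap.flip_apply, LinearMap.flip_apply]
    have h2 := hT (u t * w) _ hm _ (hi' (u t * w)⁻¹ _ hf') _ (hi'' (u t * w)⁻¹ _ hf'')
    rw [h1 _ (hi' _ _ hf') _ (hi'' _ _ hf''), hinv, hinv, map_mul, Module.End.mul_apply] at h2
    rw [h2, smul_zero]
  exact LinearMap.mem_ker.1 (hle hf)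

end Gen

section Fra

variable {k : Type u} [Field k] [DecidableEq k] [IsAlgClosed k] {F : Type w} [Field F] [Fintype F] [DecidableEq F] {ι : F →+* k}

/-- the trilinear form -/
noncomputable def Trr (Φ Φ' Φ'' : (F × F → k) →ₗ[k] (I27 → k)) :
    (F × F → k) →ₗ[k] (F × F → k) →ₗ[k] (F × F → k) →ₗ[k] k :=
  ((crB k).compl₁₂ Φ Φ').compr₂ ((tfB k).compl₂ Φ'')

theorem Trr_apply (Φ Φ' Φ'' : (F × F → k) →ₗ[k] (I27 → k)) (f f' f'' : F × F → k) :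
    Trr Φ Φ' Φ'' f f' f'' = tf (cr (Φ f) (Φ' f')) (Φ'' f'') := rfl

/-- symmetries -/
theorem tri_s12 (x y z : I27 → k) : tf (cr x y) z = tf (cr y x) z := by rw [cr_comm]

theorem tri_s23 (x y z : I27 → k) : tf (cr x y) z = tf (cr x z) y := by
  rw [tf_cr, tf_cr, cr_comm y z]

variable {ψ : SpecialLinearGroup (Fin 2) F →* ↥(Zgrp k)} {ρ ρ' : Representation k ↥(Zgrp k) (I27 → k)}

theorem pair_N (hρ : Pair ρ ρ') (g : ↥(Zgrp k)) (x : I27 → k) : cubicT (ρ g x) = cubicT x := by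
  rcases hρ with ⟨rfl, rfl⟩ | ⟨rfl, rfl⟩
  · exact N_act g x
  · exact N_act' g x

theorem pair_tri (hρ : Pair ρ ρ') (g : ↥(Zgrp k)) (x y z : I27 → k) :
    tf (cr (ρ g x) (ρ g y)) (ρ g z) = tf (cr x y) z := by
  rw [pair_cr hρ, tf_comm, pair_tf hρ, tf_comm]

theorem Trr_inv (hρ : Pair ρ ρ') {b b' b'' : ℕ} {Φ Φ' Φ'' : (F × F → k) →ₗ[k] (I27 → k)}
    (hΦ : Hm ι (Rr ρ ψ) b Φ) (hΦ' : Hm ι (Rr ρ ψ) b' Φ') (hΦ'' : Hm ι (Rr ρ ψ) b'' Φ'') :
    ∀ g, ∀ f ∈ Vb ι b, ∀ f' ∈ Vb ι b', ∀ f'' ∈ Vb ι b'',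
      Trr Φ Φ' Φ'' (fRep k F g f) (fRep k F g f') (fRep k F g f'') = Trr Φ Φ' Φ'' f f' f'' := by
  intro g f hf f' hf' f'' hf''
  rw [Trr_apply, Trr_apply, hΦ g f hf, hΦ' g f' hf', hΦ'' g f'' hf'']
  exact pair_tri hρ (ψ g) _ _ _

/-- the weights -/
theorem tri_wt (hρ : Pair ρ ρ') {x y z : I27 → k} {m n m' n' m'' n'' : ℕ} (hx : Wt ι (Rr ρ ψ) x m n)
    (hy : Wt ι (Rr ρ ψ) y m' n') (hz : Wt ι (Rr ρ ψ) z m'' n'') (h0 : tf (cr x y) z ≠ 0) :
    (m + m' + m'') % (Fintype.card F - 1) = (n + n' + n'') % (Fintype.card F - 1) := by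
  refine wt_eq ι fun a => pow_inv_eq (iota_ne a) ?_
  have h1 := pair_tri hρ (ψ (h a)) x y z
  have hx' : ρ (ψ (h a)) x = _ := hx a
  have hy' : ρ (ψ (h a)) y = _ := hy a
  have hz' : ρ (ψ (h a)) z = _ := hz a
  rw [hx', hy', hz', cr_smul_left, cr_smul_right, tf_smul_left, tf_smul_left, tf_smul_right] at h1
  have h2 : (ι a ^ (m + m' + m'') * (ι a)⁻¹ ^ (n + n' + n'')) * tf (cr x y) z = 1 * tf (cr x y) z := by
    rw [one_mul]
    refine Eq.trans ?_ h1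
    rw [pow_add, pow_add, pow_add, pow_add]
    ring
  exact mul_right_cancel₀ h0 h2

theorem Hm.wt {r : Representation k (SpecialLinearGroup (Fin 2) F) (I27 → k)} {b : ℕ}
    {Φ : (F × F → k) →ₗ[k] (I27 → k)} (hΦ : Hm ι r b Φ) {f : F × F → k} (hf : f ∈ Vb ι b) {m n : ℕ}
    (hw : Wt ι (fRep k F) f m n) : Wt ι r (Φ f) m n := by
  intro a
  rw [← hΦ _ _ hf, hw, map_smul]

theorem Trr_wt (hρ : Pair ρ ρ') {b b' b'' : ℕ} {Φ Φ' Φ'' : (F × F → k) →ₗ[k] (I27 → k)}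
    (hΦ : Hm ι (Rr ρ ψ) b Φ) (hΦ' : Hm ι (Rr ρ ψ) b' Φ') (hΦ'' : Hm ι (Rr ρ ψ) b'' Φ'') {f f' f'' : F × F → k}
    (hf : f ∈ Vb ι b) (hf' : f' ∈ Vb ι b') (hf'' : f'' ∈ Vb ι b'') {m n m' n' m'' n'' : ℕ}
    (hx : Wt ι (fRep k F) f m n) (hy : Wt ι (fRep k F) f' m' n') (hz : Wt ι (fRep k F) f'' m'' n'')
    (hne : (m + m' + m'') % (Fintype.card F - 1) ≠ (n + n' + n'') % (Fintype.card F - 1)) :
    Trr Φ Φ' Φ'' f f' f'' = 0 := by
  by_contra h0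
  exact hne (tri_wt hρ (hΦ.wt hf hx) (hΦ'.wt hf' hy) (hΦ''.wt hf'' hz) h0)

variable [CharP k 3] [CharP F 3]

theorem three_zero : (3 : k) = 0 := by
  have := CharP.cast_eq_zero k 3
  exact_mod_cast this

theorem two_ne : (2 : k) ≠ 0 := by
  intro h
  have := three_zero (k := k)
  exact one_ne_zero (α := k) (by linear_combination this - h)

/-- the cubic form on the weight spaces -/
theorem N_wt (hρ : Pair ρ ρ') {x : I27 → k} {m : ℕ} (hx : ∀ a, Rr ρ ψ (h a) x = ι a ^ m • x)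
    (hm : m % (Fintype.card F - 1) ≠ 0) : cubicT x = 0 := by
  classical
  by_contra h0
  apply hm
  rw [← Nat.zero_mod (Fintype.card F - 1)]
  refine wt_eq ι fun a => ?_
  rw [pow_zero]
  have h1 := pair_N hρ (ψ (h a)) x
  have hx' : ρ (ψ (h a)) x = _ := hx a
  rw [hx', N_smul] at h1
  have h2 : (ι a ^ m) ^ 3 = 1 := mul_right_cancel₀ h0 (by rw [h1, one_mul])
  have h3 : (ι a ^ m - 1) ^ 3 = 0 := by
    have := three_zero (k := k)
    linear_combination h2 + (- (ι a ^ m) ^ 2 + (ι a ^ m)) * this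
  exact sub_eq_zero.1 (pow_eq_zero_iff (n := 3) (by norm_num) |>.1 h3)

/-- additivity of the cubic form -/
theorem N_add_of {x y : I27 → k} (h1 : tf (cr x x) y = 0) (h2 : tf (cr y y) x = 0) :
    cubicT (x + y) = cubicT x + cubicT y := by
  have h := two_ne (k := k)
  rw [cr_self, tf_smul_left] at h1 h2
  rw [N_add, (mul_eq_zero.1 h1).resolve_left h, tf_comm x, (mul_eq_zero.1 h2).resolve_left h]
  ring

/-- **the cubic form vanishes if the trilinear form does** -/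
theorem N_zero (hρ : Pair ρ ρ') {b : ℕ} {Φ : (F × F → k) →ₗ[k] (I27 → k)} (hΦ : Hm ι (Rr ρ ψ) b Φ)
    (hi : ∀ g, ∀ f ∈ Vb ι b, fRep k F g f ∈ Vb ι b) (hm : mon ι b b ∈ Vb ι b)
    (hT : ∀ f ∈ Vb ι b, ∀ f' ∈ Vb ι b, ∀ f'' ∈ Vb ι b, tf (cr (Φ f) (Φ f')) (Φ f'') = 0)
    (h0 : cubicT (Φ (mon ι b b)) = 0) : ∀ f ∈ Vb ι b, cubicT (Φ f) = 0 := by
  have hz : cubicT (0 : I27 → k) = 0 := by
    have := N_smul (0 : k) (0 : I27 → k)
    rw [zero_smul] at this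
    rw [this]
    ring
  have key : ∀ f ∈ Vb ι b, f ∈ Vb ι b ∧ cubicT (Φ f) = 0 := by
    intro f hf
    have hf' : f ∈ Submodule.span k {x | ∃ t : F, ∃ d ∈ Db ι b, x = fRep k F (u t) (fRep k F w d)} := hf
    clear hf
    induction hf' using Submodule.span_induction with
    | mem f hf =>
      obtain ⟨t, d, hd, rfl⟩ := hf
      obtain ⟨c, rfl⟩ := Submodule.mem_span_singleton.1 hd
      rw [map_smul, map_smul]
      refine ⟨Submodule.smul_mem _ _ (hi _ _ (hi _ _ hm)), ?_⟩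
      rw [map_smul, N_smul, hΦ _ _ (hi _ _ hm), hΦ _ _ hm]
      have h1 := pair_N hρ (ψ (u t)) (Rr ρ ψ w (Φ (mon ι b b)))
      have h2 := pair_N hρ (ψ w) (Φ (mon ι b b))
      rw [Rr_apply, Rr_apply] at *
      rw [h1, h2, h0, mul_zero]
    | zero => exact ⟨zero_mem _, by rw [map_zero, hz]⟩
    | add f f' _ _ h1 h2 =>
      refine ⟨add_mem h1.1 h2.1, ?_⟩
      rw [map_add, N_add_of (hT _ h1.1 _ h1.1 _ h2.1) (hT _ h2.1 _ h2.1 _ h1.1), h1.2, h2.2, add_zero]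
    | smul c f _ h1 =>
      refine ⟨Submodule.smul_mem _ _ h1.1, ?_⟩
      rw [map_smul, N_smul, h1.2, mul_zero]
  exact fun f hf => (key f hf).2

end Fra

end Cfsg.Agent.R2.P3
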