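import Cfsg.Agent.R2.P3.L11b

/-!
# Composition factors (R2/P3, helper17)

* `soc_of_map` : nonzero equivariant maps; `dg_add`, `chB_disj` : labels with disjoint supports;
* `no_two` : no submodules `V_{2 3^i}`; `cf_TT` : the factors of `S² V_{2 3^i} ⊗ S² V_{2 3^j}`.
-/

set_option autoImplicit false
set_option linter.unusedSectionVars false

namespace Cfsg.Agent.R2.P3

open Matrix Cfsg.Agent.H943.SL2Rel Cfsg.Agent.H943.SL2Mod Cfsg.Agent.H943.RepAdd Cfsg.Agent.R2.H28.SL2
open Cfsg.Lie
open Cfsg.Agent.ChevalleyStructure.E6Min.Basic (Zgrp)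
open scoped TensorProduct

universe u v v' w

/-! ### digits -/

theorem dg_add {p : ℕ} (hp : 1 < p) : ∀ (l : ℕ) {b b' : ℕ}, (∀ l, b / p ^ l % p = 0 ∨ b' / p ^ l % p = 0) →
    (b + b') / p ^ l % p = b / p ^ l % p + b' / p ^ l % p := by
  intro l
  induction l with
  | zero =>
    intro b b' h
    have h1 := h 0
    rw [pow_zero, Nat.div_one, Nat.div_one] at h1
    rw [pow_zero, Nat.div_one, Nat.div_one, Nat.div_one]
    rcases h1 with h1 | h1
    · rw [Nat.add_mod, h1, zero_add, Nat.mod_mod]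
    · rw [Nat.add_mod, h1, add_zero, Nat.mod_mod]
  | succ l ih =>
    intro b b' h
    have h1 := h 0
    rw [pow_zero, Nat.div_one, Nat.div_one] at h1
    have h2 : (b + b') / p = b / p + b' / p := by
      rw [Nat.add_div (by omega), if_neg, add_zero]
      rw [not_le]
      rcases h1 with h1 | h1
      · rw [h1, zero_add]
        exact Nat.mod_lt _ (by omega)
      · rw [h1, add_zero]
        exact Nat.mod_lt _ (by omega)
    rw [pow_succ', ← Nat.div_div_eq_div_mul, ← Nat.div_div_eq_div_mul, ← Nat.div_div_eq_div_mul, h2]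
    refine ih fun l => ?_
    have h3 := h (l + 1)
    rwa [pow_succ', ← Nat.div_div_eq_div_mul, ← Nat.div_div_eq_div_mul] at h3

section chb

variable (k : Type*) [Field k] [DecidableEq k] (p : ℕ) [Fact p.Prime] [CharP k p]

/-- characters of labels with disjoint supports -/
theorem chB_disj : ∀ (n : ℕ) {b b' : ℕ}, b + b' ≤ n → (∀ l, b / p ^ l % p = 0 ∨ b' / p ^ l % p = 0) → ∀ z : ℂ,
    chB k (b + b') z = chB k b z * chB k b' z := by
  have hp : p.Prime := Fact.out
  intro n
  induction n with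
  | zero =>
    intro b b' h0 _ z
    obtain rfl : b = 0 := by omega
    obtain rfl : b' = 0 := by omega
    rw [chB_zero, mul_one]
  | succ n ih =>
    intro b b' hn h z
    by_cases h0 : b + b' = 0
    · obtain rfl : b = 0 := by omega
      obtain rfl : b' = 0 := by omega
      rw [chB_zero, mul_one]
    · have h1 := h 0
      rw [pow_zero, Nat.div_one, Nat.div_one] at h1
      have hb := Nat.div_add_mod b p
      have hb' := Nat.div_add_mod b' p
      have h2 : ∀ l, b / p / p ^ l % p = 0 ∨ b' / p / p ^ l % p = 0 := by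
        intro l
        have h3 := h (l + 1)
        rwa [pow_succ', ← Nat.div_div_eq_div_mul, ← Nat.div_div_eq_div_mul] at h3
      have h4 : b / p + b' / p ≤ n := by
        have h5 : b / p ≤ b := Nat.div_le_self _ _
        have h6 : b' / p ≤ b' := Nat.div_le_self _ _
        rcases Nat.eq_zero_or_pos b with hb0 | hb0
        · have : b' / p < b' := Nat.div_lt_self (by omega) hp.one_lt
          omega
        · have : b / p < b := Nat.div_lt_self hb0 hp.one_lt
          omega
      have h5 := ih h4 h2 (z ^ p)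
      have e1 := chB_mul k p (b / p) (Nat.mod_lt b hp.pos) z
      have e2 := chB_mul k p (b' / p) (Nat.mod_lt b' hp.pos) z
      rw [hb] at e1
      rw [hb'] at e2
      have h6 : b % p + b' % p < p := by
        have := Nat.mod_lt b hp.pos
        have := Nat.mod_lt b' hp.pos
        rcases h1 with h1 | h1 <;> omega
      have e3 := chB_mul k p (b / p + b' / p) h6 z
      have h7 : p * (b / p + b' / p) + (b % p + b' % p) = b + b' := by
        rw [mul_add]
        omega
      rw [h7] at e3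
      rw [e1, e2, e3, h5]
      rcases h1 with h1 | h1
      · rw [h1, zero_add, chi_zero]
        ring
      · rw [h1, add_zero, chi_zero]
        ring

end chb

section map

variable {k : Type u} [Field k] [DecidableEq k] {F : Type w} [Field F] [Fintype F] [DecidableEq F] (ι : F →+* k)
variable (p : ℕ) [Fact p.Prime] [CharP k p] [CharP F p] [IsAlgClosed k]

/-- **nonzero equivariant maps** -/
theorem soc_of_map {W : Type v} [AddCommGroup W] [Module k W] [FiniteDimensional k W]
    {τ : Representation k (SpecialLinearGroup (Fin 2) F) W} {V : Type v'} [AddCommGroup V] [Module k V]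
    [FiniteDimensional k V] {ρ : Representation k (SpecialLinearGroup (Fin 2) F) V} (T : W →ₗ[k] V)
    (he : ∀ g x, T (τ g x) = ρ g (T x)) (h0 : T ≠ 0) : ∃ c, c ∈ cf (Sy.{u, v, w} ι p) τ ∧ InSoc ι p ρ c := by
  have hR : ∀ g, ∀ x ∈ LinearMap.range T, ρ g x ∈ LinearMap.range T := by
    rintro g _ ⟨x, rfl⟩
    exact ⟨τ g x, he g x⟩
  have hR0 : LinearMap.range T ≠ ⊥ := fun h => h0 (LinearMap.range_eq_bot.1 h)
  obtain ⟨c, ⟨Y, hY, hYc⟩, hc2⟩ := exists_inSoc_sub ι p hR hR0
  refine ⟨c, ?_, hc2⟩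
  have hres : ∀ g x, T.rangeRestrict (τ g x) = subRep ρ _ hR g (T.rangeRestrict x) := fun g x => Subtype.ext (he g x)
  have hW' : ∀ g, ∀ x ∈ Y.comap T.rangeRestrict, τ g x ∈ Y.comap T.rangeRestrict := by
    intro g x hx
    rw [Submodule.mem_comap, hres]
    exact hY g _ hx
  let f : Y.comap T.rangeRestrict →ₗ[k] Y := T.rangeRestrict.restrict fun x hx => hx
  have hf : ∀ g x, f (subRep τ _ hW' g x) = subRep (subRep ρ _ hR) Y hY g (f x) := fun g x =>
    Subtype.ext (hres g x)
  have hfs : Function.Surjective f := by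
    rintro ⟨y, hy⟩
    obtain ⟨x, hx⟩ := T.surjective_rangeRestrict y
    refine ⟨⟨x, ?_⟩, Subtype.ext hx⟩
    rw [Submodule.mem_comap, hx]
    exact hy
  have hK : ∀ g, ∀ x ∈ LinearMap.ker f, subRep τ _ hW' g x ∈ LinearMap.ker f := by
    intro g x hx
    rw [LinearMap.mem_ker] at hx ⊢
    rw [hf, hx, map_zero]
  obtain ⟨e, he', -⟩ := quot_iso (subRep τ _ hW') (subRep (subRep ρ _ hR) Y hY) f hf hfs (LinearMap.ker f) hK
    fun x => Iff.rfl
  have h1 : IsV ι p (quotRep (subRep τ _ hW') (LinearMap.ker f) hK) c :=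
    IsV.iso ι p e.symm (fun g x => e.injective (by rw [LinearEquiv.apply_symm_apply, he', LinearEquiv.apply_symm_apply])) hYc
  have h2 := cf_irr (Sy.{u, v, w} ι p) h1
  have h3 := cf_quot_le (Sy.{u, v, w} ι p) (subRep τ _ hW') (LinearMap.ker f) hK
  rw [h2] at h3
  exact Multiset.mem_of_le (h3.trans (cf_sub_le (Sy.{u, v, w} ι p) τ _ hW')) (Multiset.mem_singleton_self c)

end map

section three

variable {k : Type u} [Field k] [DecidableEq k] [IsAlgClosed k] {F : Type w} [Field F] [Fintype F] [DecidableEq F]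
  {ι : F →+* k} [CharP k 3] [CharP F 3] {a : ℕ}
variable {ψ : SpecialLinearGroup (Fin 2) F →* ↥(Zgrp k)} {ρ ρ' : Representation k ↥(Zgrp k) (I27 → k)}

theorem sqs_two {i c : ℕ} (ha : a ≠ 1) (h : c ∈ sqs 3 a i 2) : c = 0 ∨ c = 3 ^ i + 3 ^ ((i + 1) % a) := by
  unfold sqs Cfsg.Agent.R2.H28.SL2.one ov at h
  rw [if_neg (by norm_num), if_neg ha] at h
  simp only [Multiset.insert_eq_cons, Multiset.mem_add, Multiset.mem_cons, Multiset.mem_singleton] at h
  unfold sqs at h
  rw [Multiset.mem_singleton] at h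
  rcases h with (h | h) | h
  · right
    rw [h]
    ring
  · left
    rw [h]
    ring
  · left
    exact h

/-- **no submodules of type `2`** -/
theorem no_two (f0 : Fra 3 a ψ ρ ρ') (ha : 3 ≤ a) (n1 : Nts (Rr ρ ψ)) (n2 : Nts (Rr ρ' ψ)) {i : ℕ}
    (hi : i < a) : ¬ InSoc ι 3 (Rr ρ ψ) (2 * 3 ^ i) := by
  rintro ⟨X, hX, hb⟩
  have hts : ¬ ∀ x ∈ X, Cfsg.Agent.H952.F4.sh x = 0 := by
    intro h
    have h1 := n1 X hX h
    have h2 := hb.irr.1
    rw [h1] at h2
    exact not_subsingleton _ (inferInstance : Subsingleton (⊥ : Submodule k (I27 → k)))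
  obtain ⟨c, hc1, hc2, hc3⟩ := f0.lzero ι hX hts
  rw [cf_sq_single ι 3 f0.card (by norm_num) hi hb] at hc1
  rcases sqs_two (by omega) hc1 with h | h
  · exact hc3 h
  · rw [h] at hc2
    exact no_eleven f0.swap ha n2 n1 (next_ne ha hi) hi (Nat.mod_lt _ (by omega)) hc2

end three

end Cfsg.Agent.R2.P3
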