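import Cfsg.Agent.R2.P3.L22
import Cfsg.Agent.R2.H28.SL2.Typ

/-!
# The decomposition into three submodules of type `22` (R2/P3, helper17), `p = 3`

* `S22` : the situation; `X22` : submodules of type `22` with a parametrization;
* `exists_three` : `V = X₀ ⊕ X₁ ⊕ X₂`; `mult_one` : the types are distinct.
-/

set_option autoImplicit false
set_option linter.unusedSectionVars false

namespace Cfsg.Agent.R2.P3

open Matrix Cfsg.Agent.H943.SL2Rel Cfsg.Agent.H943.SL2Mod Cfsg.Agent.H943.RepAdd Cfsg.Agent.R2.H28.SL2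
open Cfsg.Lie
open Cfsg.Agent.ChevalleyStructure.E6Min.Basic (Zgrp)
open Cfsg.Agent.ChevalleyStructure.E6Min.Inv
open Cfsg.Agent.H952.F4 (sh cr tf)
open Cfsg.Agent.H952.F4.Jord
open Cfsg.Agent.R2.GEO (Pair crB crB_apply tfB tfB_apply perp mem_perp finrank_perp perp_stab perp_perp)

universe u v w

section Main

variable {k : Type u} [Field k] [DecidableEq k] [IsAlgClosed k] {F : Type w} [Field F] [Fintype F] [DecidableEq F]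
  {ι : F →+* k} [CharP k 3] [CharP F 3] {a : ℕ}
variable {ψ : SpecialLinearGroup (Fin 2) F →* ↥(Zgrp k)} {ρ ρ' : Representation k ↥(Zgrp k) (I27 → k)}

/-- the situation: all irreducible submodules have type `22` -/
structure S22 (ι : F →+* k) (a : ℕ) (ψ : SpecialLinearGroup (Fin 2) F →* ↥(Zgrp k))
    (ρ ρ' : Representation k ↥(Zgrp k) (I27 → k)) : Prop where
  fra : Fra 3 a ψ ρ ρ'
  n1 : Nts (Rr ρ ψ)
  n2 : Nts (Rr ρ' ψ)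
  t1 : ∀ c, InSoc ι 3 (Rr ρ ψ) c → ∃ i j, Pr a i j ∧ c = 2 * 3 ^ i + 2 * 3 ^ j
  t2 : ∀ c, InSoc ι 3 (Rr ρ' ψ) c → ∃ i j, Pr a i j ∧ c = 2 * 3 ^ i + 2 * 3 ^ j

theorem S22.swap (S : S22 ι a ψ ρ ρ') : S22 ι a ψ ρ' ρ := ⟨S.fra.swap, S.n2, S.n1, S.t2, S.t1⟩

theorem S22.no (S : S22 ι a ψ ρ ρ') : No1 ι (Rr ρ ψ) := by
  intro c hc l
  obtain ⟨i, j, P, rfl⟩ := S.t1 c hc
  rw [dgt3 P.ne (by norm_num) (by norm_num)]
  split_ifs <;> norm_num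

theorem card22 {i j : ℕ} (hij : i ≠ j) : (Bf k (2 * 3 ^ i + 2 * 3 ^ j)).card = 9 := by
  rw [Cfsg.Agent.R2.SL2.Bf_eq (k := k) (p := 3), Cfsg.Agent.R2.SL2.card_Bp,
    typ_pair (p := 3) (by norm_num) (by norm_num) (by norm_num) (by norm_num) hij]
  rfl

theorem S22.nine (S : S22 ι a ψ ρ ρ') : Nine (Rr ρ ψ) := by
  intro W hW hW0
  obtain ⟨c, ⟨K, hK, hKc⟩, hc⟩ := exists_inSoc_sub ι 3 hW hW0
  obtain ⟨i, j, P, rfl⟩ := S.t1 c hc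
  have h1 := IsV.finrank (k := k) ι (p := 3) hKc
  rw [card22 P.ne] at h1
  have h2 := Submodule.finrank_le K
  omega

/-- a submodule of type `22` with a parametrization -/
structure X22 (ι : F →+* k) (a : ℕ) (r : Representation k (SpecialLinearGroup (Fin 2) F) (I27 → k))
    (X : Submodule k (I27 → k)) (i j : ℕ) (Φ : (F × F → k) →ₗ[k] (I27 → k)) : Prop where
  P : Pr a i j
  st : ∀ g, ∀ x ∈ X, r g x ∈ X
  isv : IsV ι 3 (subRep r X st) (2 * 3 ^ i + 2 * 3 ^ j)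
  hm : Hm ι r (2 * 3 ^ i + 2 * 3 ^ j) Φ
  mem : ∀ x, x ∈ X ↔ ∃ f ∈ Vb ι (2 * 3 ^ i + 2 * 3 ^ j), Φ f = x
  inj : ∀ f ∈ Vb ι (2 * 3 ^ i + 2 * 3 ^ j), Φ f = 0 → f = 0
  nine : Module.finrank k X = 9

theorem X22.top {r : Representation k (SpecialLinearGroup (Fin 2) F) (I27 → k)}
    {X : Submodule k (I27 → k)} {i j : ℕ} {Φ : (F × F → k) →ₗ[k] (I27 → k)} (T : X22 ι a r X i j Φ)
    (hF : Fintype.card F = 3 ^ a) : Φ (bf ι 3 i j 2 2 2 2) ≠ 0 := by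
  intro h
  have h1 := T.inj _ (T.P.mm hF le_rfl le_rfl) h
  rw [bf_eq_mon ι 3 i j le_rfl le_rfl] at h1
  exact mon_ne_zero ι _ h1

theorem X22.ne {r : Representation k (SpecialLinearGroup (Fin 2) F) (I27 → k)}
    {X : Submodule k (I27 → k)} {i j : ℕ} {Φ : (F × F → k) →ₗ[k] (I27 → k)} (T : X22 ι a r X i j Φ)
    (hF : Fintype.card F = 3 ^ a) : ∃ f ∈ Vb ι (2 * 3 ^ i + 2 * 3 ^ j), Φ f ≠ 0 :=
  ⟨_, T.P.mm hF le_rfl le_rfl, T.top hF⟩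

/-- irreducible submodules -/
theorem S22.exists_irr (S : S22 ι a ψ ρ ρ') {W : Submodule k (I27 → k)} (hW : ∀ g, ∀ x ∈ W, Rr ρ ψ g x ∈ W) (hW0 : W ≠ ⊥) :
    ∃ (X : Submodule k (I27 → k)) (i j : ℕ) (Φ : (F × F → k) →ₗ[k] (I27 → k)), X ≤ W ∧ X22 ι a (Rr ρ ψ) X i j Φ := by
  obtain ⟨c, ⟨K, hK, hKc⟩, hc⟩ := exists_inSoc_sub ι 3 hW hW0
  obtain ⟨i, j, P, rfl⟩ := S.t1 c hc
  obtain ⟨hX, ⟨e, he⟩⟩ := eqv_map (subRep (Rr ρ ψ) W hW) (Rr ρ ψ) W.subtype (fun _ _ => rfl) W.injective_subtype K hK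
  have h1 : IsV ι 3 (subRep (Rr ρ ψ) (K.map W.subtype) hX) (2 * 3 ^ i + 2 * 3 ^ j) := IsV.iso ι 3 e he hKc
  obtain ⟨Φ, h2, h3, h4, h5⟩ := exists_Hm_of_IsV ι 3 h1
  refine ⟨K.map W.subtype, i, j, Φ, Submodule.map_subtype_le W K, P, hX, h1, h2, fun x => ⟨fun hx => h4 x hx, ?_⟩, h5, ?_⟩
  · rintro ⟨f, hf, rfl⟩
    exact h3 f hf
  · have h6 := IsV.finrank (k := k) ι (p := 3) h1
    rw [h6, card22 P.ne]

/-- complements -/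
theorem S22.compl (S : S22 ι a ψ ρ ρ') {X : Submodule k (I27 → k)} {i j : ℕ} {Φ : (F × F → k) →ₗ[k] (I27 → k)}
    (T : X22 ι a (Rr ρ ψ) X i j Φ) :
    ∃ K : Submodule k (I27 → k), (∀ g, ∀ x ∈ K, Rr ρ ψ g x ∈ K) ∧ IsCompl X K ∧ Module.finrank k K = 18 :=
  exists_compl22 S.fra S.n1 S.n2 T.P S.swap.no S.nine S.swap.nine T.st T.nine T.hm T.mem (T.ne S.fra.card)

/-- **three submodules** -/
theorem S22.exists_three (S : S22 ι a ψ ρ ρ') : ∃ (X₀ X₁ X₂ : Submodule k (I27 → k)) (i₀ j₀ i₁ j₁ i₂ j₂ : ℕ)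
    (Φ₀ Φ₁ Φ₂ : (F × F → k) →ₗ[k] (I27 → k)), X22 ι a (Rr ρ ψ) X₀ i₀ j₀ Φ₀ ∧ X22 ι a (Rr ρ ψ) X₁ i₁ j₁ Φ₁ ∧
      X22 ι a (Rr ρ ψ) X₂ i₂ j₂ Φ₂ ∧ X₀ ⊓ X₁ = ⊥ ∧ X₀ ⊓ X₂ = ⊥ ∧ X₁ ⊓ X₂ = ⊥ ∧ X₀ ⊔ (X₁ ⊔ X₂) = ⊤ := by
  have h27 : Module.finrank k (I27 → k) = 27 := by
    rw [Module.finrank_fintype_fun_eq_card]
    rfl
  have hnt : (⊤ : Submodule k (I27 → k)) ≠ ⊥ := by
    intro h
    have h1 : Module.finrank k (⊤ : Submodule k (I27 → k)) = 0 := by rw [h, finrank_bot]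
    rw [finrank_top, h27] at h1
    omega
  obtain ⟨X₀, i₀, j₀, Φ₀, -, T₀⟩ := S.exists_irr (W := ⊤) (fun _ _ _ => trivial) hnt
  obtain ⟨V₁, hV₁, hc₀, hd₁⟩ := S.compl T₀
  have hb₁ : V₁ ≠ ⊥ := by
    rintro rfl
    rw [finrank_bot] at hd₁
    omega
  obtain ⟨X₁, i₁, j₁, Φ₁, hX₁, T₁⟩ := S.exists_irr hV₁ hb₁
  obtain ⟨K₁, hK₁, hc₁, hdK⟩ := S.compl T₁
  have hV₂ : ∀ g, ∀ x ∈ V₁ ⊓ K₁, Rr ρ ψ g x ∈ V₁ ⊓ K₁ := fun g x hx => ⟨hV₁ g x hx.1, hK₁ g x hx.2⟩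
  have hd₂ : 9 ≤ Module.finrank k ↑(V₁ ⊓ K₁) := by
    have h1 := Submodule.finrank_sup_add_finrank_inf_eq V₁ K₁
    have h2 := Submodule.finrank_le (V₁ ⊔ K₁)
    omega
  have hb₂ : V₁ ⊓ K₁ ≠ ⊥ := by
    intro h
    rw [h, finrank_bot] at hd₂
    omega
  obtain ⟨X₂, i₂, j₂, Φ₂, hX₂, T₂⟩ := S.exists_irr hV₂ hb₂
  have e1 : X₁ ⊓ X₂ = ⊥ := by
    rw [eq_bot_iff, ← disjoint_iff.1 hc₁.1]
    exact inf_le_inf_left _ (hX₂.trans inf_le_right)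
  have e12 : X₁ ⊔ X₂ ≤ V₁ := sup_le hX₁ (hX₂.trans inf_le_left)
  have e0 : X₀ ⊓ (X₁ ⊔ X₂) = ⊥ := by
    rw [eq_bot_iff, ← disjoint_iff.1 hc₀.1]
    exact inf_le_inf_left _ e12
  refine ⟨X₀, X₁, X₂, i₀, j₀, i₁, j₁, i₂, j₂, Φ₀, Φ₁, Φ₂, T₀, T₁, T₂, ?_, ?_, e1, ?_⟩
  · rw [eq_bot_iff, ← e0]
    exact inf_le_inf_left _ le_sup_left
  · rw [eq_bot_iff, ← e0]
    exact inf_le_inf_left _ le_sup_right
  · apply Submodule.eq_top_of_finrank_eq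
    have h1 := Submodule.finrank_sup_add_finrank_inf_eq X₁ X₂
    have h2 := Submodule.finrank_sup_add_finrank_inf_eq X₀ (X₁ ⊔ X₂)
    rw [e1, finrank_bot] at h1
    rw [e0, finrank_bot] at h2
    have := T₀.nine
    have := T₁.nine
    have := T₂.nine
    omega

/-- **multiplicities** -/
theorem S22.mult_one (S : S22 ι a ψ ρ ρ') {X X' : Submodule k (I27 → k)} {i j : ℕ} {Φ Φ' : (F × F → k) →ₗ[k] (I27 → k)}
    (T : X22 ι a (Rr ρ ψ) X i j Φ) (T' : X22 ι a (Rr ρ ψ) X' i j Φ') : X ⊓ X' ≠ ⊥ := by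
  intro hinf
  have hF := S.fra.card
  obtain ⟨m22, h22⟩ : ∃ m, m = bf ι 3 i j 2 2 2 2 := ⟨_, rfl⟩
  obtain ⟨m00, h00⟩ : ∃ m, m = bf ι 3 i j 2 2 0 0 := ⟨_, rfl⟩
  obtain ⟨m11, h11⟩ : ∃ m, m = bf ι 3 i j 2 2 1 1 := ⟨_, rfl⟩
  have hne' := tri_ne S.fra S.n1 S.n2 T.P S.swap.no T'.hm (T'.ne hF)
  rw [← h22, ← h00, ← h11] at hne'
  have hpoly : ∃ s : k, tf (cr (Φ' m22) (Φ' m00)) (Φ' m11) * s ^ 3 +
      (tf (cr (Φ m22) (Φ' m00)) (Φ' m11) + tf (cr (Φ' m22) (Φ m00)) (Φ' m11) + tf (cr (Φ' m22) (Φ' m00)) (Φ m11)) * s ^ 2 +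
      (tf (cr (Φ m22) (Φ m00)) (Φ' m11) + tf (cr (Φ m22) (Φ' m00)) (Φ m11) + tf (cr (Φ' m22) (Φ m00)) (Φ m11)) * s +
      tf (cr (Φ m22) (Φ m00)) (Φ m11) = 0 := by
    obtain ⟨s, hs⟩ := IsAlgClosed.exists_root (Polynomial.C (tf (cr (Φ' m22) (Φ' m00)) (Φ' m11)) * Polynomial.X ^ 3 +
      Polynomial.C (tf (cr (Φ m22) (Φ' m00)) (Φ' m11) + tf (cr (Φ' m22) (Φ m00)) (Φ' m11) +
        tf (cr (Φ' m22) (Φ' m00)) (Φ m11)) * Polynomial.X ^ 2 +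
      Polynomial.C (tf (cr (Φ m22) (Φ m00)) (Φ' m11) + tf (cr (Φ m22) (Φ' m00)) (Φ m11) +
        tf (cr (Φ' m22) (Φ m00)) (Φ m11)) * Polynomial.X +
      Polynomial.C (tf (cr (Φ m22) (Φ m00)) (Φ m11))) (by
        rw [Polynomial.degree_cubic hne']
        norm_num)
    refine ⟨s, ?_⟩
    rw [Polynomial.IsRoot.def] at hs
    simpa only [Polynomial.eval_add, Polynomial.eval_mul, Polynomial.eval_C, Polynomial.eval_pow, Polynomial.eval_X] using hs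
  obtain ⟨s, hs⟩ := hpoly
  have hHm : Hm ι (Rr ρ ψ) (2 * 3 ^ i + 2 * 3 ^ j) (Φ + s • Φ') := by
    intro g f hf
    rw [LinearMap.add_apply, LinearMap.smul_apply, T.hm g f hf, T'.hm g f hf, LinearMap.add_apply, LinearMap.smul_apply,
      map_add, map_smul]
  refine tri_ne S.fra S.n1 S.n2 T.P S.swap.no hHm ?_ ?_
  · refine ⟨_, T.P.mm hF le_rfl le_rfl, fun h => T.top hF ?_⟩
    have h1 : Φ (bf ι 3 i j 2 2 2 2) ∈ X ⊓ X' := by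
      refine ⟨(T.mem _).2 ⟨_, T.P.mm hF le_rfl le_rfl, rfl⟩, ?_⟩
      have h2 : Φ (bf ι 3 i j 2 2 2 2) = Φ' ((-s) • bf ι 3 i j 2 2 2 2) := by
        rw [LinearMap.add_apply, LinearMap.smul_apply] at h
        rw [map_smul, neg_smul]
        exact eq_neg_of_add_eq_zero_left h
      rw [h2]
      exact (T'.mem _).2 ⟨_, Submodule.smul_mem _ _ (T.P.mm hF le_rfl le_rfl), rfl⟩
    rw [hinf] at h1
    exact (Submodule.mem_bot k).1 h1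
  · rw [← h22, ← h00, ← h11, LinearMap.add_apply, LinearMap.add_apply, LinearMap.add_apply, LinearMap.smul_apply,
      LinearMap.smul_apply, LinearMap.smul_apply]
    simp only [cr_add_left, cr_add_right, cr_smul_left, cr_smul_right, tf_add_left, tf_add_right, tf_smul_left,
      tf_smul_right]
    linear_combination hs

end Main

end Cfsg.Agent.R2.P3
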