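import Cfsg.Agent.R2.H28.SL2.SPres

/-!
# Modules of `SL(2, q)` as spaces of functions (R2/P3, helper17)

* `xi`, `et` : the Frobenius twists of the coordinate functions; `bf` : the monomials of `V_{c p^i + d p^j}`;
* `bf_mem`, `Vb_le_bf`; `Hm` : equivariant maps from `V_b`, as linear maps on all functions;
* `gen_zero` : an equivariant bilinear map on `V_b × V_b'` vanishes if it vanishes on (highest, lowest) weight vector;
* `psum_gen` : power sums; `exists_Hm` : the module generated by a vector `y` fixed by `U` for which `u(t) w y` is given.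
-/

set_option autoImplicit false
set_option linter.unusedSectionVars false

namespace Cfsg.Agent.R2.P3

open Matrix Cfsg.Agent.H943.SL2Rel Cfsg.Agent.H943.SL2Mod Cfsg.Agent.H943.RepAdd Cfsg.Agent.R2.H28.SL2

universe u v w

/-! ### digits -/

theorem dg_pair {p c d i j l : ℕ} (hp : 1 < p) (hij : i ≠ j) (hc : c < p) (hd : d < p) :
    (c * p ^ i + d * p ^ j) / p ^ l % p = if l = i then c else if l = j then d else 0 := by
  have h1 : ∀ m n : ℕ, m < p ^ n → ∀ d l : ℕ, (m + d * p ^ n) / p ^ l % p =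
      if l < n then m / p ^ l % p else d / p ^ (l - n) % p := by
    intro m n hm d l
    split_ifs with h
    · obtain ⟨e, rfl⟩ : ∃ e, n = l + (e + 1) := ⟨n - l - 1, by omega⟩
      have h2 : m + d * p ^ (l + (e + 1)) = m + p ^ l * (d * p ^ e * p) := by ring
      rw [h2, Nat.add_mul_div_left _ _ (Nat.pow_pos (by omega)), Nat.add_mul_mod_self_right]
    · obtain ⟨e, rfl⟩ : ∃ e, l = n + e := ⟨l - n, by omega⟩
      rw [pow_add, ← Nat.div_div_eq_div_mul, Nat.add_mul_div_right _ _ (Nat.pow_pos (by omega)),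
        Nat.div_eq_of_lt hm, zero_add, Nat.add_sub_cancel_left]
  have key : ∀ {c d i j l : ℕ}, i < j → c < p → d < p →
      (c * p ^ i + d * p ^ j) / p ^ l % p = if l = i then c else if l = j then d else 0 := by
    intro c d i j l h hc hd
    have h2 : c * p ^ i < p ^ j := by
      calc c * p ^ i < p * p ^ i := Nat.mul_lt_mul_of_pos_right hc (Nat.pow_pos (by omega))
        _ = p ^ (i + 1) := by rw [pow_succ, mul_comm]
        _ ≤ p ^ j := Nat.pow_le_pow_right (by omega) (by omega)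
    rw [h1 (c * p ^ i) j h2 d l, dg_single hp hc]
    by_cases hlj : l < j
    · rw [if_pos hlj, if_neg (show l ≠ j by omega)]
    · rw [if_neg hlj, if_neg (show l ≠ i by omega)]
      have h4 := dg_single hp hd 0 (l - j)
      rw [pow_zero, mul_one] at h4
      rw [h4]
      by_cases hl : l = j
      · rw [if_pos hl, if_pos (by omega)]
      · rw [if_neg hl, if_neg (by omega)]
  rcases Nat.lt_or_gt_of_ne hij with h | h
  · exact key h hc hd
  · rw [add_comm, key h hd hc]
    by_cases hl : l = i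
    · rw [if_pos hl, if_neg (by omega), if_pos hl]
    · rw [if_neg hl, if_neg hl]

theorem eq_of_dg {p : ℕ} (hp : 1 < p) : ∀ {m n : ℕ}, (∀ l, m / p ^ l % p = n / p ^ l % p) → m = n := by
  intro m
  induction m using Nat.strong_induction_on with
  | _ m ih =>
    intro n h
    by_cases h0 : m = 0
    · subst h0
      by_contra hn
      have hn' : 0 < n := by omega
      -- the leading digit of `n`
      have h1 : n / p ^ (Nat.log p n) % p = n / p ^ (Nat.log p n) := by
        apply Nat.mod_eq_of_lt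
        rw [Nat.div_lt_iff_lt_mul (Nat.pow_pos (by omega)), ← pow_succ']
        exact Nat.lt_pow_succ_log_self hp n
      have h2 := h (Nat.log p n)
      rw [h1, Nat.zero_div, Nat.zero_mod] at h2
      have h3 := Nat.div_pos (Nat.pow_log_le_self p (by omega : n ≠ 0)) (Nat.pow_pos (by omega))
      omega
    · have h1 := h 0
      rw [pow_zero, Nat.div_one, Nat.div_one] at h1
      have h2 : m / p = n / p := ih (m / p) (Nat.div_lt_self (by omega) hp) fun l => by
        have h3 := h (l + 1)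
        rwa [pow_succ', ← Nat.div_div_eq_div_mul, ← Nat.div_div_eq_div_mul] at h3
      rw [← Nat.div_add_mod m p, ← Nat.div_add_mod n p, h1, h2]

theorem pair_lt_pow {p a c d i j : ℕ} (hp : 1 < p) (hij : i ≠ j) (hc : c < p) (hd : d < p) (hi : i < a) (hj : j < a) :
    c * p ^ i + d * p ^ j < p ^ a := by
  have key : ∀ {c d i j : ℕ}, i < j → j < a → c < p → d < p → c * p ^ i + d * p ^ j < p ^ a := by
    intro c d i j h hj hc hd
    have h2 : c * p ^ i < p ^ j := by
      calc c * p ^ i < p * p ^ i := Nat.mul_lt_mul_of_pos_right hc (Nat.pow_pos (by omega))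
        _ = p ^ (i + 1) := by rw [pow_succ, mul_comm]
        _ ≤ p ^ j := Nat.pow_le_pow_right (by omega) (by omega)
    calc c * p ^ i + d * p ^ j < p ^ j + d * p ^ j := Nat.add_lt_add_right h2 _
      _ = (d + 1) * p ^ j := by ring
      _ ≤ p * p ^ j := Nat.mul_le_mul_right _ (by omega)
      _ = p ^ (j + 1) := by rw [pow_succ, mul_comm]
      _ ≤ p ^ a := Nat.pow_le_pow_right (by omega) (by omega)
  rcases Nat.lt_or_gt_of_ne hij with h | h
  · exact key h hj hc hd
  · rw [add_comm]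
    exact key h hi hd hc

/-! ### functions -/

variable {k : Type u} [Field k] {F : Type w} [Field F] [Fintype F] [DecidableEq F] (ι : F →+* k)

/-- the twists of the first coordinate -/
def xi (p i : ℕ) : F × F → k := fun z => ι z.1 ^ p ^ i

/-- the twists of the second coordinate -/
def et (p i : ℕ) : F × F → k := fun z => ι z.2 ^ p ^ i

theorem fRep_mul (g : SpecialLinearGroup (Fin 2) F) (f f' : F × F → k) :
    fRep k F g (f * f') = fRep k F g f * fRep k F g f' := rfl

theorem fRep_pow (g : SpecialLinearGroup (Fin 2) F) (f : F × F → k) (n : ℕ) :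
    fRep k F g (f ^ n) = fRep k F g f ^ n := rfl

theorem fRep_add (g : SpecialLinearGroup (Fin 2) F) (f f' : F × F → k) :
    fRep k F g (f + f') = fRep k F g f + fRep k F g f' := rfl

theorem fRep_smul (g : SpecialLinearGroup (Fin 2) F) (c : k) (f : F × F → k) :
    fRep k F g (c • f) = c • fRep k F g f := rfl

theorem fRep_neg (g : SpecialLinearGroup (Fin 2) F) (f : F × F → k) : fRep k F g (-f) = -fRep k F g f := rfl

/-- the monomials of `V_{c p^i + d p^j}` -/
def bf (p i j c d x y : ℕ) : F × F → k := xi ι p i ^ x * et ι p i ^ (c - x) * (xi ι p j ^ y * et ι p j ^ (d - y))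

theorem bf_eq_mon (p i j : ℕ) {c d x y : ℕ} (hx : x ≤ c) (hy : y ≤ d) :
    bf ι p i j c d x y = mon ι (c * p ^ i + d * p ^ j) (x * p ^ i + y * p ^ j) := by
  funext z
  have h1 : c * p ^ i + d * p ^ j - (x * p ^ i + y * p ^ j) = (c - x) * p ^ i + (d - y) * p ^ j := by
    rw [Nat.sub_mul, Nat.sub_mul]
    have := Nat.mul_le_mul_right (p ^ i) hx
    have := Nat.mul_le_mul_right (p ^ j) hy
    omega
  show (ι z.1 ^ p ^ i) ^ x * (ι z.2 ^ p ^ i) ^ (c - x) * ((ι z.1 ^ p ^ j) ^ y * (ι z.2 ^ p ^ j) ^ (d - y)) =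
    ι z.1 ^ (x * p ^ i + y * p ^ j) * ι z.2 ^ (c * p ^ i + d * p ^ j - (x * p ^ i + y * p ^ j))
  rw [h1, pow_add, pow_add, ← pow_mul, ← pow_mul, ← pow_mul, ← pow_mul, mul_comm (p ^ i) x, mul_comm (p ^ j) y,
    mul_comm (p ^ i) (c - x), mul_comm (p ^ j) (d - y)]
  ring

variable (p : ℕ) [Fact p.Prime] [CharP k p] [CharP F p]

theorem fRep_u_xi (i : ℕ) (t : F) : fRep k F (u t) (xi ι p i) = xi ι p i := by
  funext z
  obtain ⟨x, y⟩ := z
  rw [fRep_u]
  rfl

omit [CharP F p] in
theorem fRep_u_et (i : ℕ) (t : F) : fRep k F (u t) (et ι p i) = et ι p i + (ι t ^ p ^ i) • xi ι p i := by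
  funext z
  obtain ⟨x, y⟩ := z
  rw [fRep_u]
  show ι (x * t + y) ^ p ^ i = ι y ^ p ^ i + ι t ^ p ^ i * ι x ^ p ^ i
  rw [map_add, map_mul, add_pow_char_pow, mul_pow]
  ring

omit [CharP F p] in
theorem fRep_w_xi (i : ℕ) : fRep k F w (xi ι p i) = -et ι p i := by
  funext z
  obtain ⟨x, y⟩ := z
  rw [fRep_w]
  show ι (-y) ^ p ^ i = -ι y ^ p ^ i
  have h := add_pow_char_pow (n := i) (p := p) (ι (-y)) (ι y)
  rw [← map_add, neg_add_cancel, map_zero, zero_pow (pow_ne_zero _ (Fact.out : p.Prime).ne_zero)] at h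
  exact eq_neg_of_add_eq_zero_left h.symm

theorem fRep_w_et (i : ℕ) : fRep k F w (et ι p i) = xi ι p i := by
  funext z
  obtain ⟨x, y⟩ := z
  rw [fRep_w]
  rfl

theorem fRep_h_xi (i : ℕ) (a : Fˣ) : fRep k F (h a) (xi ι p i) = (ι a ^ p ^ i) • xi ι p i := by
  funext z
  obtain ⟨x, y⟩ := z
  rw [fRep_h]
  show ι (x * a) ^ p ^ i = ι a ^ p ^ i * ι x ^ p ^ i
  rw [map_mul, mul_pow, mul_comm]

theorem fRep_h_et (i : ℕ) (a : Fˣ) : fRep k F (h a) (et ι p i) = ((ι a)⁻¹ ^ p ^ i) • et ι p i := by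
  funext z
  obtain ⟨x, y⟩ := z
  rw [fRep_h]
  show ι (y * (a : F)⁻¹) ^ p ^ i = (ι a)⁻¹ ^ p ^ i * ι y ^ p ^ i
  rw [map_mul, mul_pow, map_inv₀, mul_comm]

section Mem

variable {i j c d : ℕ}

theorem bf_mem (hij : i ≠ j) (hc : c < p) (hd : d < p) (hb : c * p ^ i + d * p ^ j ≤ Fintype.card F - 1) {x y : ℕ}
    (hx : x ≤ c) (hy : y ≤ d) : bf ι p i j c d x y ∈ Vb ι (c * p ^ i + d * p ^ j) := by
  classical
  have hp : p.Prime := Fact.out
  rw [bf_eq_mon ι p i j hx hy]
  refine Cfsg.Agent.H179.SLC.mon_mem_Vb ι p (neg_one_pow_Q ι) hb ⟨?_, ?_⟩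
  · exact Nat.add_le_add (Nat.mul_le_mul_right _ hx) (Nat.mul_le_mul_right _ hy)
  · rw [choose_ne_iff p]
    intro l
    rw [dg_pair hp.one_lt hij (by omega) (by omega), dg_pair hp.one_lt hij hc hd]
    split_ifs <;> omega

/-- the monomials span -/
theorem Vb_le_bf (hij : i ≠ j) (hc : c < p) (hd : d < p) {P : (F × F → k) → Prop}
    (h0 : P 0) (ha : ∀ f f', P f → P f' → P (f + f')) (hs : ∀ (a : k) f, P f → P (a • f))
    (hb : ∀ x ≤ c, ∀ y ≤ d, P (bf ι p i j c d x y)) {f : F × F → k} (hf : f ∈ Vb ι (c * p ^ i + d * p ^ j)) : P f := by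
  have hp : p.Prime := Fact.out
  have h1 := Vb_le ι (c * p ^ i + d * p ^ j) hf
  clear hf
  induction h1 using Submodule.span_induction with
  | mem f hf' =>
    obtain ⟨m, ⟨hm1, hm2⟩, rfl⟩ := hf'
    rw [choose_ne_iff p] at hm2
    have hx := hm2 i
    have hy := hm2 j
    rw [dg_pair hp.one_lt hij hc hd, if_pos rfl] at hx
    rw [dg_pair hp.one_lt hij hc hd, if_neg (Ne.symm hij), if_pos rfl] at hy
    have h2 : m = m / p ^ i % p * p ^ i + m / p ^ j % p * p ^ j := by
      refine eq_of_dg hp.one_lt fun l => ?_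
      rw [dg_pair hp.one_lt hij (Nat.mod_lt _ hp.pos) (Nat.mod_lt _ hp.pos)]
      split_ifs with hl hl'
      · rw [hl]
      · rw [hl']
      · have := hm2 l
        rw [dg_pair hp.one_lt hij hc hd, if_neg hl, if_neg hl'] at this
        omega
    rw [h2, ← bf_eq_mon ι p i j hx hy]
    exact hb _ hx _ hy
  | zero => exact h0
  | add f f' _ _ h1 h2 => exact ha f f' h1 h2
  | smul a f _ h1 => exact hs a f h1

end Mem

end Cfsg.Agent.R2.P3
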