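import Cfsg.Agent.R2.P3.Fun

/-!
# Equivariant maps from `V_b` (R2/P3, helper17)

* `Hm` : equivariant maps from `V_b`, as linear maps on all functions; `exists_Hm_of_IsV`, `Hm.inSoc`, `Hm.inj`;
* `gen_zero` : an equivariant bilinear map on `V_b × V_b'` vanishes if it vanishes on (highest, lowest) weight vector;
* `fix_of` : vectors fixed by `U`, `T`, `w`;
* `psum_gen` : power sums; `exists_Hm` : the module generated by a vector `y` fixed by `U` for which `u(t) w y` is given.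
-/

set_option autoImplicit false
set_option linter.unusedSectionVars false

namespace Cfsg.Agent.R2.P3

open Matrix Cfsg.Agent.H943.SL2Rel Cfsg.Agent.H943.SL2Mod Cfsg.Agent.H943.RepAdd Cfsg.Agent.R2.H28.SL2

universe u v w

variable {k : Type u} [Field k] {F : Type w} [Field F] [Fintype F] [DecidableEq F] (ι : F →+* k)

section

variable {V : Type*} [AddCommGroup V] [Module k V] (r : Representation k (SpecialLinearGroup (Fin 2) F) V)

/-- equivariant maps from `V_b` -/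
def Hm (b : ℕ) (Φ : (F × F → k) →ₗ[k] V) : Prop := ∀ g, ∀ f ∈ Vb ι b, Φ (fRep k F g f) = r g (Φ f)

variable {ι r}

/-- vectors fixed by `U`, `T` and `w` are fixed -/
theorem fix_of {x : V} (hu : ∀ t, r (u t) x = x) (hh : ∀ a, r (h a) x = x) (hw : r w x = x)
    (g : SpecialLinearGroup (Fin 2) F) : r g x = x := by
  refine induct (P := fun g => r g x = x) hu hh hw ?_ g
  intro a b ha hb
  rw [map_mul, Module.End.mul_apply, hb, ha]

/-- **an equivariant bilinear map is determined by its value on (highest weight, lowest weight)** -/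
theorem gen_zero {b b' : ℕ} {B : (F × F → k) →ₗ[k] (F × F → k) →ₗ[k] V}
    (hB : ∀ g, ∀ f ∈ Vb ι b, ∀ f' ∈ Vb ι b', B (fRep k F g f) (fRep k F g f') = r g (B f f'))
    (hi' : ∀ g, ∀ f ∈ Vb ι b', fRep k F g f ∈ Vb ι b')
    (hm : mon ι b b ∈ Vb ι b) (hm' : mon ι b' b' ∈ Vb ι b')
    (h0 : B (mon ι b b) (fRep k F w (mon ι b' b')) = 0) : ∀ f ∈ Vb ι b, ∀ f' ∈ Vb ι b', B f f' = 0 := by
  -- the highest weight vector is fixed by `U`
  have hfix : ∀ t : F, fRep k F (u t) (mon ι b b) = mon ι b b := by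
    intro t
    funext z
    obtain ⟨x, y⟩ := z
    rw [fRep_u, mon_self, mon_self]
  have h1 : ∀ f' ∈ Vb ι b', B (mon ι b b) f' = 0 := by
    intro f' hf'
    have hle : Vb ι b' ≤ LinearMap.ker (B (mon ι b b)) := by
      refine Submodule.span_le.2 ?_
      rintro _ ⟨t, d, hd, rfl⟩
      obtain ⟨c, rfl⟩ := Submodule.mem_span_singleton.1 hd
      rw [SetLike.mem_coe, LinearMap.mem_ker, map_smul, map_smul, map_smul]
      have h2 := hB (u t) _ hm _ (hi' w _ hm')
      rw [hfix, h0, map_zero] at h2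
      rw [h2, smul_zero]
    exact LinearMap.mem_ker.1 (hle hf')
  intro f hf f' hf'
  have hle : Vb ι b ≤ LinearMap.ker (B.flip f') := by
    refine Submodule.span_le.2 ?_
    rintro _ ⟨t, d, hd, rfl⟩
    obtain ⟨c, rfl⟩ := Submodule.mem_span_singleton.1 hd
    rw [SetLike.mem_coe, LinearMap.mem_ker, map_smul, map_smul, map_smul, LinearMap.flip_apply]
    have h2 := hB (u t * w) _ hm _ (hi' (u t * w)⁻¹ _ hf')
    rw [h1 _ (hi' _ _ hf'), map_zero] at h2
    have h3 : fRep k F (u t * w) (fRep k F (u t * w)⁻¹ f') = f' := by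
      rw [← Module.End.mul_apply, ← map_mul, mul_inv_cancel, map_one, Module.End.one_apply]
    rw [h3, map_mul, Module.End.mul_apply] at h2
    rw [h2, smul_zero]
  exact LinearMap.mem_ker.1 (hle hf)

end

variable (p : ℕ) [Fact p.Prime] [CharP k p] [CharP F p]

include p in
theorem inv_Vb' {b : ℕ} (hb : b ≤ Fintype.card F - 1) : ∀ g, ∀ f ∈ Vb ι b, fRep k F g f ∈ Vb ι b :=
  Cfsg.Agent.H179.SLC.inv_Vb ι p (neg_one_pow_Q ι) hb

include p in
theorem top_mem {b : ℕ} (hb : b ≤ Fintype.card F - 1) : mon ι b b ∈ Vb ι b :=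
  Cfsg.Agent.H179.SLC.Db_le ι p (neg_one_pow_Q ι) hb (mon_mem_Db ι b)

section

variable {V : Type*} [AddCommGroup V] [Module k V] {r : Representation k (SpecialLinearGroup (Fin 2) F) V}

theorem exists_Hm_of_IsV {X : Submodule k V} {hX : ∀ g, ∀ x ∈ X, r g x ∈ X} {b : ℕ} (h : IsV ι p (subRep r X hX) b) :
    ∃ Φ : (F × F → k) →ₗ[k] V, Hm ι r b Φ ∧ (∀ f ∈ Vb ι b, Φ f ∈ X) ∧ (∀ x ∈ X, ∃ f ∈ Vb ι b, Φ f = x) ∧
      ∀ f ∈ Vb ι b, Φ f = 0 → f = 0 := by
  obtain ⟨hb, φ, hφ⟩ := h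
  obtain ⟨Φ, hΦ⟩ := LinearMap.exists_extend (X.subtype ∘ₗ (φ : Vb ι b →ₗ[k] X))
  have h1 : ∀ f (hf : f ∈ Vb ι b), Φ f = φ ⟨f, hf⟩ := fun f hf => LinearMap.congr_fun hΦ ⟨f, hf⟩
  refine ⟨Φ, ?_, ?_, ?_, ?_⟩
  · intro g f hf
    rw [h1 _ (inv_Vb' ι p hb g f hf), h1 _ hf]
    exact congrArg Subtype.val (hφ g ⟨f, hf⟩)
  · intro f hf
    rw [h1 _ hf]
    exact (φ _).2
  · intro x hx
    obtain ⟨f, hf⟩ := φ.surjective ⟨x, hx⟩
    exact ⟨f, f.2, by rw [h1 _ f.2, Subtype.coe_eta, hf]⟩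
  · intro f hf h0
    rw [h1 _ hf] at h0
    have h2 : φ ⟨f, hf⟩ = 0 := Subtype.ext h0
    exact congrArg Subtype.val (φ.map_eq_zero_iff.1 h2)

/-- the restriction to `V_b` -/
theorem Hm.inSoc [IsAlgClosed k] [DecidableEq k] {b : ℕ} (hb : b ≤ Fintype.card F - 1) {Φ : (F × F → k) →ₗ[k] V}
    (hΦ : Hm ι r b Φ) (h0 : ∃ f ∈ Vb ι b, Φ f ≠ 0) : InSoc ι p r b := by
  refine inSoc_of_hom ι p (σ := RB ι p hb) ⟨hb, LinearEquiv.refl k _, fun g x => rfl⟩ (Φ ∘ₗ (Vb ι b).subtype)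
    (fun g x => hΦ g x x.2) ?_
  obtain ⟨f, hf, hf0⟩ := h0
  intro h
  exact hf0 (LinearMap.congr_fun h ⟨f, hf⟩)

include p in
theorem Hm.inj {b : ℕ} (hb : b ≤ Fintype.card F - 1) {Φ : (F × F → k) →ₗ[k] V}
    (hΦ : Hm ι r b Φ) (h0 : ∃ f ∈ Vb ι b, Φ f ≠ 0) : ∀ f ∈ Vb ι b, Φ f = 0 → f = 0 := by
  have h1 := Cfsg.Agent.H179.SLC.irr_rb ι p ι.injective (neg_one_pow_Q ι) hb
  rcases h1.2 (LinearMap.ker (Φ ∘ₗ (Vb ι b).subtype)) (by
    intro g x hx
    rw [LinearMap.mem_ker] at hx ⊢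
    have h2 := hΦ g x x.2
    have hx' : Φ x = 0 := hx
    show Φ (fRep k F g x) = 0
    rw [h2, hx', map_zero]) with h2 | h2
  · intro f hf hf0
    have h3 : (⟨f, hf⟩ : Vb ι b) ∈ LinearMap.ker (Φ ∘ₗ (Vb ι b).subtype) := hf0
    rw [h2, Submodule.mem_bot] at h3
    exact congrArg Subtype.val h3
  · obtain ⟨f, hf, hf0⟩ := h0
    have h3 : (⟨f, hf⟩ : Vb ι b) ∈ LinearMap.ker (Φ ∘ₗ (Vb ι b).subtype) := by rw [h2]; trivial
    exact absurd h3 hf0

omit [Fact p.Prime] [CharP k p] [CharP F p] in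
/-- `Φ ≠ 0` on `V_b` iff it is non-zero on the highest weight vector -/
theorem Hm.zero {b : ℕ} {Φ : (F × F → k) →ₗ[k] V}
    (hΦ : Hm ι r b Φ) (h0 : Φ (mon ι b b) = 0) (hm : mon ι b b ∈ Vb ι b)
    (hi : ∀ g, ∀ f ∈ Vb ι b, fRep k F g f ∈ Vb ι b) : ∀ f ∈ Vb ι b, Φ f = 0 := by
  intro f hf
  have hle : Vb ι b ≤ LinearMap.ker Φ := by
    refine Submodule.span_le.2 ?_
    rintro _ ⟨t, d, hd, rfl⟩
    obtain ⟨c, rfl⟩ := Submodule.mem_span_singleton.1 hd
    rw [SetLike.mem_coe, LinearMap.mem_ker, map_smul, map_smul, map_smul, hΦ _ _ (hi _ _ hm), hΦ _ _ hm, h0, map_zero,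
      map_zero, smul_zero]
  exact LinearMap.mem_ker.1 (hle hf)

end

include p in
/-- the power sums -/
theorem psum_gen (e : ℕ) : ∑ t : F, ι t ^ e = if e ≠ 0 ∧ Fintype.card F - 1 ∣ e then -1 else 0 := by
  classical
  have hq := one_lt (F := F)
  by_cases h0 : e = 0
  · subst h0
    rw [if_neg (fun h => h.1 rfl)]
    simp only [pow_zero, Finset.sum_const, Finset.card_univ, nsmul_eq_mul, mul_one]
    exact card_zero (k := k) (F := F) p
  · -- reduce the exponent
    obtain ⟨d, hd1, hd2, hd3⟩ : ∃ d, d ≠ 0 ∧ d ≤ Fintype.card F - 1 ∧ d % (Fintype.card F - 1) = e % (Fintype.card F - 1) := by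
      by_cases he : Fintype.card F - 1 ∣ e
      · refine ⟨Fintype.card F - 1, by omega, le_rfl, ?_⟩
        rw [Nat.mod_self, Nat.mod_eq_zero_of_dvd he]
      · refine ⟨e % (Fintype.card F - 1), fun h => he (Nat.dvd_of_mod_eq_zero h), (Nat.mod_lt _ (by omega)).le, ?_⟩
        exact Nat.mod_mod _ _
    have h1 : ∑ t : F, ι t ^ e = ∑ t : F, ι t ^ d := by
      refine Finset.sum_congr rfl fun t _ => ?_
      by_cases ht : t = 0
      · rw [ht, map_zero, zero_pow h0, zero_pow hd1]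
      · rw [← Nat.div_add_mod e (Fintype.card F - 1), ← Nat.div_add_mod d (Fintype.card F - 1), pow_add, pow_add,
          pow_mul, pow_mul, powQ ι ht, one_pow, one_pow, hd3]
    rw [h1, psum ι (by omega)]
    by_cases he : Fintype.card F - 1 ∣ e
    · have hd : d = Fintype.card F - 1 := by
        rw [Nat.mod_eq_zero_of_dvd he] at hd3
        have := Nat.dvd_of_mod_eq_zero hd3
        have := Nat.le_of_dvd (by omega) this
        omega
      rw [if_pos hd, if_pos ⟨h0, he⟩]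
    · have hd : d ≠ Fintype.card F - 1 := by
        rintro rfl
        rw [Nat.mod_self] at hd3
        exact he (Nat.dvd_of_mod_eq_zero hd3.symm)
      rw [if_neg hd, if_neg (fun h => he h.2)]

section

variable {V : Type*} [AddCommGroup V] [Module k V] {r : Representation k (SpecialLinearGroup (Fin 2) F) V}

include p in
/-- **coefficients** -/
theorem coeff_zero {α : Type*} {J : Finset α} {e : α → ℕ} {z : α → V} (hz : ∀ t : F, ∑ j ∈ J, ι t ^ e j • z j = 0)
    {j₀ : α} (hj₀ : j₀ ∈ J)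
    (hne : ∀ j ∈ J, j ≠ j₀ → e j % (Fintype.card F - 1) ≠ e j₀ % (Fintype.card F - 1)) : z j₀ = 0 := by
  classical
  have hq := one_lt (F := F)
  -- the complementary exponent
  obtain ⟨n, hn⟩ : ∃ n, n = Fintype.card F - 1 - e j₀ % (Fintype.card F - 1) := ⟨_, rfl⟩
  have hlt := Nat.mod_lt (e j₀) (show 0 < Fintype.card F - 1 by omega)
  have hn0 : n ≠ 0 := by omega
  have key : ∀ e' : ℕ, Fintype.card F - 1 ∣ n + e' ↔ e' % (Fintype.card F - 1) = e j₀ % (Fintype.card F - 1) := by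
    intro e'
    have h1 : n + e j₀ % (Fintype.card F - 1) = Fintype.card F - 1 := by omega
    constructor
    · intro h
      have h2 : n + e' ≡ n + e j₀ [MOD Fintype.card F - 1] := by
        have h3 : Fintype.card F - 1 ∣ n + e j₀ := by
          rw [← Nat.div_add_mod (e j₀) (Fintype.card F - 1)]
          have h4 : n + ((Fintype.card F - 1) * (e j₀ / (Fintype.card F - 1)) + e j₀ % (Fintype.card F - 1)) =
              (Fintype.card F - 1) * (e j₀ / (Fintype.card F - 1)) + (Fintype.card F - 1) := by omega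
          rw [h4]
          exact Dvd.dvd.add (Dvd.intro _ rfl) (dvd_refl _)
        exact ((Nat.modEq_zero_iff_dvd).2 h).trans ((Nat.modEq_zero_iff_dvd).2 h3).symm
      exact Nat.ModEq.add_left_cancel' n h2
    · intro h
      rw [← Nat.div_add_mod e' (Fintype.card F - 1), h]
      have h4 : n + ((Fintype.card F - 1) * (e' / (Fintype.card F - 1)) + e j₀ % (Fintype.card F - 1)) =
          (Fintype.card F - 1) * (e' / (Fintype.card F - 1)) + (Fintype.card F - 1) := by omega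
      rw [h4]
      exact Dvd.dvd.add (Dvd.intro _ rfl) (dvd_refl _)
  have h1 : ∑ t : F, ι t ^ n • ∑ j ∈ J, ι t ^ e j • z j = 0 :=
    Finset.sum_eq_zero fun t _ => by rw [hz, smul_zero]
  have h2 : ∑ t : F, ι t ^ n • ∑ j ∈ J, ι t ^ e j • z j = ∑ j ∈ J, (∑ t : F, ι t ^ (n + e j)) • z j := by
    simp only [Finset.smul_sum, smul_smul, ← pow_add, Finset.sum_smul]
    exact Finset.sum_comm
  rw [h2, Finset.sum_eq_single j₀] at h1
  · rw [psum_gen ι p, if_pos ⟨by omega, (key _).2 rfl⟩, neg_one_smul] at h1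
    exact neg_eq_zero.1 h1
  · intro j hj hjj
    rw [psum_gen ι p, if_neg, zero_smul]
    rintro ⟨-, h3⟩
    rw [key] at h3
    exact hne j hj hjj h3
  · intro h
    exact absurd hj₀ h

/-- **the module generated by a vector** -/
theorem exists_Hm [DecidableEq k] {a : ℕ} (hF : Fintype.card F = p ^ a) {c : ℕ} (hc : c < Fintype.card F - 1) {y : V}
    (hu : ∀ t, r (u t) y = y) (hh : ∀ a, r (h a) y = ι a ^ c • y) {α : Type*} {J : Finset α} {e : α → ℕ} {z : α → V}
    (hz : ∀ t, r (u t) (r w y) = ∑ j ∈ J, ι t ^ e j • z j)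
    (h1 : ∀ j ∈ J, e j ≠ 0 → e j % (Fintype.card F - 1) = 0 → z j = 0)
    (h2 : ∀ s < a, c / p ^ s % p + 1 < p → ∀ j ∈ J,
      e j % (Fintype.card F - 1) = en p c s % (Fintype.card F - 1) → z j = 0) :
    ∃ Φ : (F × F → k) →ₗ[k] V, Hm ι r c Φ ∧ Φ (mon ι c c) = y := by
  have hp : p.Prime := Fact.out
  have hq := one_lt (F := F)
  obtain ⟨Q, hQ⟩ : ∃ Q, Q = Fintype.card F - 1 := ⟨_, rfl⟩
  rw [← hQ] at hc h1 h2
  have hmem : mon ι c c ∈ Vb ι c := top_mem ι p (by omega)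
  have hσ : IsV ι p (RB ι p (show c ≤ Fintype.card F - 1 by omega)) c :=
    ⟨by omega, LinearEquiv.refl k _, fun g x => rfl⟩
  obtain ⟨f, hf1, hf2⟩ := gen_hw ι p r hF hσ (m := ⟨mon ι c c, hmem⟩)
    (fun h0 => mon_ne_zero ι c (congrArg Subtype.val h0)) (fun t => by
      apply Subtype.ext
      show fRep k F (u t) (mon ι c c) = mon ι c c
      funext z
      obtain ⟨x, y⟩ := z
      rw [fRep_u, mon_self, mon_self]) hu hh (by
      have hcb : cb k F c = 0 := if_pos (by omega)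
      rw [hcb, zero_smul, SS_apply, Finset.sum_congr rfl fun t _ => hz t, Finset.sum_comm]
      refine Finset.sum_eq_zero fun j hj => ?_
      rw [← Finset.sum_smul, psum_gen ι p]
      by_cases hj0 : e j ≠ 0 ∧ Fintype.card F - 1 ∣ e j
      · rw [h1 j hj hj0.1 (by rw [hQ]; exact Nat.mod_eq_zero_of_dvd hj0.2), smul_zero]
      · rw [if_neg hj0, zero_smul]) (fun s hs hlt => by
      have he1 : 1 ≤ en p c s := en_pos hp.pos
      have he2 : en p c s ≤ p ^ a - 1 := en_le hp.pos hs hlt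
      rw [Dm_apply, neg_eq_zero, Finset.sum_congr rfl fun t _ => by rw [hz t, Finset.smul_sum], Finset.sum_comm]
      refine Finset.sum_eq_zero fun j hj => ?_
      have h3 : ∀ t : F, ι t ^ (Fintype.card F - 1 - en p c s) • ι t ^ e j • z j =
          ι t ^ (Fintype.card F - 1 - en p c s + e j) • z j := fun t => by rw [smul_smul, pow_add]
      rw [Finset.sum_congr rfl fun t _ => h3 t, ← Finset.sum_smul, psum_gen ι p]
      by_cases hj0 : Fintype.card F - 1 - en p c s + e j ≠ 0 ∧ Fintype.card F - 1 ∣ Fintype.card F - 1 - en p c s + e j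
      · rw [h2 s hs hlt j hj ?_, smul_zero]
        rw [← hQ] at hj0
        have h4 : Q - en p c s + e j + en p c s = e j + Q := by omega
        have h5 : (Q - en p c s + e j + en p c s) % Q = en p c s % Q := by
          rw [Nat.add_mod, Nat.mod_eq_zero_of_dvd hj0.2, zero_add, Nat.mod_mod]
        rw [h4, Nat.add_mod_right] at h5
        exact h5
      · rw [if_neg hj0, zero_smul])
  obtain ⟨Φ, hΦ⟩ := LinearMap.exists_extend f
  have h3 : ∀ f' (hf' : f' ∈ Vb ι c), Φ f' = f ⟨f', hf'⟩ := fun f' hf' => LinearMap.congr_fun hΦ ⟨f', hf'⟩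
  refine ⟨Φ, fun g f' hf' => ?_, by rw [h3 _ hmem, hf2]⟩
  rw [h3 _ (inv_Vb' ι p (by omega) g f' hf'), h3 _ hf', ← hf1]
  rfl

end

end Cfsg.Agent.R2.P3
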