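import Cfsg.Agent.R2.P3.L11

/-!
# No submodules of type `11`, second part (R2/P3, helper17), `p = 3`

`no_eleven` : there are no submodules `V_{3^i + 3^j}`.
-/

set_option autoImplicit false
set_option linter.unusedSectionVars false

namespace Cfsg.Agent.R2.P3

open Matrix Cfsg.Agent.H943.SL2Rel Cfsg.Agent.H943.SL2Mod Cfsg.Agent.H943.RepAdd Cfsg.Agent.R2.H28.SL2
open Cfsg.Lie
open Cfsg.Agent.ChevalleyStructure.E6Min.Basic (Zgrp)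
open Cfsg.Agent.ChevalleyStructure.E6Min.Inv
open Cfsg.Agent.H952.F4 (sh cr tf)
open Cfsg.Agent.H952.F4.Jord
open Cfsg.Agent.R2.GEO (Pair crB crB_apply tfB tfB_apply)

universe u v w

theorem next_ne {a i : ℕ} (ha : 3 ≤ a) (hi : i < a) : i ≠ (i + 1) % a := by
  rcases Nat.lt_or_ge (i + 1) a with h | h
  · rw [Nat.mod_eq_of_lt h]
    omega
  · rw [show i + 1 = a by omega, Nat.mod_self]
    omega

theorem pow_next {k : Type u} [Field k] {F : Type w} [Field F] [Fintype F] [DecidableEq F] (ι : F →+* k) {a i : ℕ}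
    (hF : Fintype.card F = 3 ^ a) (hi : i < a) (t : F) : (ι t ^ 3 ^ i) ^ 3 = ι t ^ 3 ^ ((i + 1) % a) := by
  rw [← pow_mul, ← pow_succ]
  rcases Nat.lt_or_ge (i + 1) a with h | h
  · rw [Nat.mod_eq_of_lt h]
  · rw [show i + 1 = a by omega, Nat.mod_self, pow_zero, pow_one, ← hF, powq]

section Gen11

variable {k : Type u} [Field k] {F : Type w} [Field F] [Fintype F] [DecidableEq F] (ι : F →+* k) [CharP k 3] [CharP F 3]
  {a : ℕ} {V : Type*} [AddCommGroup V] [Module k V] {r : Representation k (SpecialLinearGroup (Fin 2) F) V}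
  {i i' : ℕ} {w0 w1 w2 w3 w4 : V}

/-- the middle coefficient is fixed by `U` -/
theorem u_fix (hF : Fintype.card F = 3 ^ a) (ha : 3 ≤ a) (hne : i ≠ i') (hi : i < a) (hi' : i' < a)
    (huw : ∀ t, r (u t) w0 = w0 + (ι t ^ 3 ^ i) • w1 + ((ι t ^ 3 ^ i) ^ 2) • w2 + (ι t ^ 3 ^ i') • w3 +
      (ι t ^ 3 ^ i * ι t ^ 3 ^ i') • w4) (s : F) : r (u s) w2 = w2 := by
  let D : ℕ → ℕ → V := fun r' s' =>
    match r', s' with
    | 0, 0 => r (u s) w0 - (w0 + (ι s ^ 3 ^ i) • w1 + ((ι s ^ 3 ^ i) ^ 2) • w2 + (ι s ^ 3 ^ i') • w3 +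
        (ι s ^ 3 ^ i * ι s ^ 3 ^ i') • w4)
    | 1, 0 => r (u s) w1 - (w1 + (2 * ι s ^ 3 ^ i) • w2 + (ι s ^ 3 ^ i') • w4)
    | 2, 0 => r (u s) w2 - w2
    | 0, 1 => r (u s) w3 - (w3 + (ι s ^ 3 ^ i) • w4)
    | 1, 1 => r (u s) w4 - w4
    | _, _ => 0
  have hD := coeff2 ι hF ha hne hi hi' (C := D) (fun t => by
    have h1 : r (u s) (r (u t) w0) = r (u (s + t)) w0 := by
      rw [u_add, map_mul, Module.End.mul_apply]
    rw [huw t, huw (s + t), map_add ι, add_pow_char_pow, add_pow_char_pow] at h1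
    simp only [map_add, map_smul] at h1
    simp only [Finset.sum_range_succ, Finset.sum_range_zero, zero_add, D, pow_zero, pow_one, mul_one, one_mul, one_smul,
      smul_zero, add_zero]
    rw [← sub_eq_zero] at h1
    rw [← h1]
    module)
  exact sub_eq_zero.1 (hD 2 (by norm_num) 0 (by norm_num))

/-- all coefficients vanish -/
theorem w_zero (hF : Fintype.card F = 3 ^ a) (ha : 3 ≤ a) (hne : i ≠ i') (hi : i < a) (hi' : i' < a)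
    (huw : ∀ t : F, w0 + (ι t ^ 3 ^ i) • w1 + ((ι t ^ 3 ^ i) ^ 2) • w2 + (ι t ^ 3 ^ i') • w3 +
      (ι t ^ 3 ^ i * ι t ^ 3 ^ i') • w4 = 0) : w3 = 0 := by
  let D : ℕ → ℕ → V := fun r' s' =>
    match r', s' with
    | 0, 0 => w0
    | 1, 0 => w1
    | 2, 0 => w2
    | 0, 1 => w3
    | 1, 1 => w4
    | _, _ => 0
  have hD := coeff2 ι hF ha hne hi hi' (C := D) (fun t => by
    simp only [Finset.sum_range_succ, Finset.sum_range_zero, zero_add, D, pow_zero, pow_one, mul_one, one_mul, one_smul,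
      smul_zero, add_zero]
    rw [← huw t]
    module)
  exact hD 0 (by norm_num) 1 (by norm_num)

/-- the module generated by a vector of weight `3^i + 3^i'` -/
theorem exists_gen11 [DecidableEq k] (hF : Fintype.card F = 3 ^ a) (ha : 3 ≤ a) (hne : i ≠ i') (hi : i < a) (hi' : i' < a) {P : V}
    (huP : ∀ t, r (u t) P = P) (hwt : ∀ c, r (h c) P = ι c ^ (1 * 3 ^ i + 1 * 3 ^ i') • P)
    (huw : ∀ t, r (u t) (r w P) = w0 + (ι t ^ 3 ^ i) • w1 + ((ι t ^ 3 ^ i) ^ 2) • w2 + (ι t ^ 3 ^ i') • w3 +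
      (ι t ^ 3 ^ i * ι t ^ 3 ^ i') • w4) (hw2z : w2 = 0) :
    ∃ Φ₁ : (F × F → k) →ₗ[k] V, Hm ι r (1 * 3 ^ i + 1 * 3 ^ i') Φ₁ ∧
      Φ₁ (mon ι (1 * 3 ^ i + 1 * 3 ^ i') (1 * 3 ^ i + 1 * 3 ^ i')) = P := by
  have hQ := pair_lt_Q ha hne hi hi'
  let z : ℕ → ℕ → V := fun r s' =>
      match r, s' with
      | 0, 0 => w0
      | 1, 0 => w1
      | 2, 0 => w2
      | 0, 1 => w3
      | 1, 1 => w4
      | _, _ => 0
  have hz20 : z 2 0 = 0 := hw2z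
  have hz02 : z 0 2 = 0 := rfl
  have hsum : ∀ t, r (u t) (r w P) = ∑ x ∈ Finset.range 3 ×ˢ Finset.range 3, ι t ^ (x.1 * 3 ^ i + x.2 * 3 ^ i') • z x.1 x.2 := by
    intro t
    rw [huw, Finset.sum_product]
    simp only [Finset.sum_range_succ, Finset.sum_range_zero, zero_add, z]
    simp only [zero_mul, add_zero, pow_zero, one_smul, one_mul, zero_add, smul_zero, pow_add, pow_mul, mul_comm 2 (3 ^ i)]
    abel
  clear_value z
  refine exists_Hm (r := r) ι 3 hF (c := 1 * 3 ^ i + 1 * 3 ^ i') (by rw [hF]; omega) (y := P) huP hwt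
    (J := Finset.range 3 ×ˢ Finset.range 3) (e := fun x => x.1 * 3 ^ i + x.2 * 3 ^ i') (z := fun x => z x.1 x.2)
    hsum
    (by
      rintro ⟨r, s⟩ h1 h2 h3
      exfalso
      rw [Finset.mem_product, Finset.mem_range, Finset.mem_range] at h1
      have h4 : r * 3 ^ i ≤ 2 * 3 ^ i := Nat.mul_le_mul_right _ (by have := h1.1; omega)
      have h5 : s * 3 ^ i' ≤ 2 * 3 ^ i' := Nat.mul_le_mul_right _ (by have := h1.2; omega)
      have h6 : (r * 3 ^ i + s * 3 ^ i') % (Fintype.card F - 1) = 0 := h3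
      rw [Nat.mod_eq_of_lt (by rw [hF]; omega)] at h6
      exact h2 h6)
    (by
      rintro s' hs' - ⟨r, s⟩ h1 h3
      rw [Finset.mem_product, Finset.mem_range, Finset.mem_range] at h1
      have h4 : r * 3 ^ i ≤ 2 * 3 ^ i := Nat.mul_le_mul_right _ (by have := h1.1; omega)
      have h5 : s * 3 ^ i' ≤ 2 * 3 ^ i' := Nat.mul_le_mul_right _ (by have := h1.2; omega)
      have h6 : (r * 3 ^ i + s * 3 ^ i') % (Fintype.card F - 1) = en 3 (1 * 3 ^ i + 1 * 3 ^ i') s' % (Fintype.card F - 1) := h3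
      rw [Nat.mod_eq_of_lt (by rw [hF]; omega)] at h6
      by_cases hs1 : s' = i
      · subst hs1
        have h7 : en 3 (1 * 3 ^ s' + 1 * 3 ^ i') s' = 2 * 3 ^ s' + 0 * 3 ^ i' := by
          unfold en
          rw [dgt3 hne (by norm_num) (by norm_num), if_pos rfl]
          ring
        rw [h7, Nat.mod_eq_of_lt (by rw [hF]; omega)] at h6
        obtain ⟨rfl, rfl⟩ := rs_inj hne h1.1 h1.2 (by norm_num) (by norm_num) h6
        exact hz20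
      · by_cases hs2 : s' = i'
        · subst hs2
          have h7 : en 3 (1 * 3 ^ i + 1 * 3 ^ s') s' = 0 * 3 ^ i + 2 * 3 ^ s' := by
            unfold en
            rw [dgt3 hne (by norm_num) (by norm_num), if_neg (Ne.symm hne), if_pos rfl]
            ring
          rw [h7, Nat.mod_eq_of_lt (by rw [hF]; omega)] at h6
          obtain ⟨rfl, rfl⟩ := rs_inj hne h1.1 h1.2 (by norm_num) (by norm_num) h6
          exact hz02
        · exfalso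
          have h7 : en 3 (1 * 3 ^ i + 1 * 3 ^ i') s' = 1 * 3 ^ s' := by
            unfold en
            rw [dgt3 hne (by norm_num) (by norm_num), if_neg hs1, if_neg hs2]
          have h8 : 1 * 3 ^ s' + 0 * 3 ^ i < Fintype.card F - 1 := by
            have := pair_lt_Q ha hs1 hs' hi
            rw [hF]
            omega
          rw [h7, Nat.mod_eq_of_lt (by omega)] at h6
          have h9 := dgt3 (l := s') hne h1.1 h1.2
          rw [h6, if_neg hs1, if_neg hs2, dg_single (by norm_num) (by norm_num), if_pos rfl] at h9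
          omega)

end Gen11

section Main

variable {k : Type u} [Field k] [DecidableEq k] [IsAlgClosed k] {F : Type w} [Field F] [Fintype F] [DecidableEq F]
  {ι : F →+* k} [CharP k 3] [CharP F 3] {a : ℕ}
variable {ψ : SpecialLinearGroup (Fin 2) F →* ↥(Zgrp k)} {ρ ρ' : Representation k ↥(Zgrp k) (I27 → k)}
variable {i j : ℕ} {Φ Ψ : (F × F → k) →ₗ[k] (I27 → k)} (C : Cf11 ι a i j ρ ρ' ψ Φ Ψ)

include C

/-- the weights of `cr (Ψ f) (Ψ f')` -/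
theorem Cf11.cwt {f f' : F × F → k} (hf : f ∈ Vb ι (2 * 3 ^ i + 2 * 3 ^ j)) (hf' : f' ∈ Vb ι (2 * 3 ^ i + 2 * 3 ^ j))
    {m n m' n' : ℕ} (h : Wt ι (fRep k F) f m n) (h' : Wt ι (fRep k F) f' m' n') :
    Wt ι (Rr ρ ψ) (cr (Ψ f) (Ψ f')) (m + m') (n + n') := by
  intro c
  rw [cr_eqv C.fra.pair.swap C.h2 C.h2 _ hf hf', h, h', map_smul, map_smul, cr_smul_left, cr_smul_right, smul_smul]
  congr 1
  rw [pow_add, pow_add]
  ring

omit C [DecidableEq k] [IsAlgClosed k] in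
theorem wv : fRep k F w (bf ι 3 i j 2 2 2 2) = bf ι 3 i j 2 2 0 0 ∧ fRep k F w (bf ι 3 i j 2 2 2 0) = bf ι 3 i j 2 2 0 2 ∧
    fRep k F w (bf ι 3 i j 2 2 0 2) = bf ι 3 i j 2 2 2 0 ∧ fRep k F w (bf ι 3 i j 2 2 0 0) = bf ι 3 i j 2 2 2 2 ∧
    fRep k F w (bf ι 3 i j 2 2 1 0) = (-1 : k) • bf ι 3 i j 2 2 1 2 ∧
    fRep k F w (bf ι 3 i j 2 2 1 2) = (-1 : k) • bf ι 3 i j 2 2 1 0 ∧
    fRep k F w (bf ι 3 i j 2 2 1 1) = bf ι 3 i j 2 2 1 1 := by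
  have e1 : ∀ n, Even n → (-1 : k) ^ n = 1 := fun n hn => hn.neg_one_pow
  have e2 : ∀ n, Odd n → (-1 : k) ^ n = -1 := fun n hn => hn.neg_one_pow
  refine ⟨?_, ?_, ?_, ?_, ?_, ?_, ?_⟩ <;> rw [w_bf ι i j (by decide) (by decide)]
  · rw [e1 _ (by decide), one_smul]
  · rw [e1 _ (by decide), one_smul]
  · rw [e1 _ (by decide), one_smul]
  · rw [e1 _ (by decide), one_smul]
  · rw [e2 _ (by decide)]
  · rw [e2 _ (by decide)]
  · rw [e1 _ (by decide), one_smul]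

/-- P1 and P3 on monomials, explicitly -/
theorem Cf11.rel :
    cr (Ψ (bf ι 3 i j 2 2 2 2)) (Ψ (bf ι 3 i j 2 2 2 2)) = 0 ∧ cr (Ψ (bf ι 3 i j 2 2 2 2)) (Ψ (bf ι 3 i j 2 2 2 1)) = 0 ∧
    cr (Ψ (bf ι 3 i j 2 2 2 2)) (Ψ (bf ι 3 i j 2 2 1 2)) = 0 ∧ cr (Ψ (bf ι 3 i j 2 2 2 2)) (Ψ (bf ι 3 i j 2 2 1 1)) = 0 ∧
    cr (Ψ (bf ι 3 i j 2 2 2 0)) (Ψ (bf ι 3 i j 2 2 2 0)) = 0 :=
  ⟨C.m1 (x := 1) (y := 1) (x' := 1) (y' := 1) le_rfl le_rfl le_rfl le_rfl,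
    C.m1 (x := 1) (y := 1) (x' := 1) (y' := 0) le_rfl le_rfl le_rfl (by decide),
    C.m1 (x := 1) (y := 1) (x' := 0) (y' := 1) le_rfl le_rfl (by decide) le_rfl,
    C.m1 (x := 1) (y := 1) (x' := 0) (y' := 0) le_rfl le_rfl (by decide) (by decide),
    C.m1 (x := 1) (y := 0) (x' := 1) (y' := 0) le_rfl (by decide) le_rfl (by decide)⟩

/-- the middle coefficient vanishes -/
theorem Cf11.w2z : cr (Ψ (bf ι 3 i j 2 2 2 0)) (Ψ (bf ι 3 i j 2 2 0 2)) +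
      (4 : k) • cr (Ψ (bf ι 3 i j 2 2 1 0)) (Ψ (bf ι 3 i j 2 2 1 2)) +
      cr (Ψ (bf ι 3 i j 2 2 0 0)) (Ψ (bf ι 3 i j 2 2 2 2)) = 0 := by
  have hne := next_ne C.ha C.hi
  have hlt : (i + 1) % a < a := Nat.mod_lt _ (by have := C.ha; omega)
  have M : ∀ {x y : ℕ}, x ≤ 2 → y ≤ 2 → bf ι 3 i j 2 2 x y ∈ Vb ι (2 * 3 ^ i + 2 * 3 ^ j) := fun hx hy => C.mm hx hy
  obtain ⟨v22, v20, v02, v00, v10, v12, v11⟩ := wv (ι := ι) (i := i) (j := j)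
  refine C.fra.fix _ (fix_of ?_ ?_ ?_)
  · refine u_fix ι C.fra.card C.ha hne C.hi hlt (w0 := cr (Ψ (bf ι 3 i j 2 2 0 0)) (Ψ (bf ι 3 i j 2 2 0 2)))
      (w1 := (2 : k) • cr (Ψ (bf ι 3 i j 2 2 1 0)) (Ψ (bf ι 3 i j 2 2 0 2)) +
      (2 : k) • cr (Ψ (bf ι 3 i j 2 2 0 0)) (Ψ (bf ι 3 i j 2 2 1 2)))
      (w3 := (2 : k) • cr (Ψ (bf ι 3 i j 2 2 2 0)) (Ψ (bf ι 3 i j 2 2 1 2)) +
      (2 : k) • cr (Ψ (bf ι 3 i j 2 2 1 0)) (Ψ (bf ι 3 i j 2 2 2 2)))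
      (w4 := cr (Ψ (bf ι 3 i j 2 2 2 0)) (Ψ (bf ι 3 i j 2 2 2 2))) fun t => ?_
    rw [C.uw t, ← pow_next ι C.fra.card C.hi t, ← pow_succ']
  · intro c
    have k1 := (C.cwt (M le_rfl (by norm_num)) (M (by norm_num) le_rfl) (bf_wt ι 3 i j 2 2 2 0) (bf_wt ι 3 i j 2 2 0 2))
    have k2 := (C.cwt (M (by norm_num) (by norm_num)) (M (by norm_num) le_rfl) (bf_wt ι 3 i j 2 2 1 0)
      (bf_wt ι 3 i j 2 2 1 2))
    have k3 := (C.cwt (M (by norm_num) (by norm_num)) (M le_rfl le_rfl) (bf_wt ι 3 i j 2 2 0 0)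
      (bf_wt ι 3 i j 2 2 2 2))
    have e1 : 2 * 3 ^ i + 0 * 3 ^ j + (0 * 3 ^ i + 2 * 3 ^ j) = (2 - 2) * 3 ^ i + (2 - 0) * 3 ^ j + ((2 - 0) * 3 ^ i + (2 - 2) * 3 ^ j) := by
      norm_num
      ring
    have e2 : 1 * 3 ^ i + 0 * 3 ^ j + (1 * 3 ^ i + 2 * 3 ^ j) = (2 - 1) * 3 ^ i + (2 - 0) * 3 ^ j + ((2 - 1) * 3 ^ i + (2 - 2) * 3 ^ j) := by
      norm_num
      ring
    have e3 : 0 * 3 ^ i + 0 * 3 ^ j + (2 * 3 ^ i + 2 * 3 ^ j) = (2 - 0) * 3 ^ i + (2 - 0) * 3 ^ j + ((2 - 2) * 3 ^ i + (2 - 2) * 3 ^ j) := by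
      norm_num
    rw [← e1] at k1
    rw [← e2] at k2
    rw [← e3] at k3
    rw [map_add, map_add, map_smul, k1.fix, k2.fix, k3.fix]
  · rw [map_add, map_add, map_smul, cr_eqv C.fra.pair.swap C.h2 C.h2 _ (M le_rfl (by norm_num)) (M (by norm_num) le_rfl),
      cr_eqv C.fra.pair.swap C.h2 C.h2 _ (M (by norm_num) (by norm_num)) (M (by norm_num) le_rfl),
      cr_eqv C.fra.pair.swap C.h2 C.h2 _ (M (by norm_num) (by norm_num)) (M le_rfl le_rfl),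
      v20, v02, v10, v12, v00, v22, map_smul, map_smul, cr_smul_left, cr_smul_right, smul_smul (-1 : k) (-1 : k),
      neg_one_mul, neg_neg, one_smul,
      cr_comm (Ψ (bf ι 3 i j 2 2 0 2)), cr_comm (Ψ (bf ι 3 i j 2 2 1 2)), cr_comm (Ψ (bf ι 3 i j 2 2 2 2))]

/-- **the vector `cr (Ψ y22) (Ψ y20)` vanishes** -/
theorem Cf11.pz : cr (Ψ (bf ι 3 i j 2 2 2 2)) (Ψ (bf ι 3 i j 2 2 2 0)) = 0 := by
  have hF := C.fra.card
  have hne := next_ne C.ha C.hi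
  have hlt : (i + 1) % a < a := Nat.mod_lt _ (by have := C.ha; omega)
  have M : ∀ {x y : ℕ}, x ≤ 2 → y ≤ 2 → bf ι 3 i j 2 2 x y ∈ Vb ι (2 * 3 ^ i + 2 * 3 ^ j) := fun hx hy => C.mm hx hy
  obtain ⟨v22, v20, v02, v00, v10, v12, v11⟩ := wv (ι := ι) (i := i) (j := j)
  obtain ⟨r1, r2, r3, r4, r5⟩ := C.rel
  obtain ⟨P, hP⟩ : ∃ P, P = cr (Ψ (bf ι 3 i j 2 2 2 2)) (Ψ (bf ι 3 i j 2 2 2 0)) := ⟨_, rfl⟩
  rw [← hP]
  have hwP : Rr ρ ψ w P = cr (Ψ (bf ι 3 i j 2 2 0 0)) (Ψ (bf ι 3 i j 2 2 0 2)) := by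
    rw [hP, cr_eqv C.fra.pair.swap C.h2 C.h2 _ (M le_rfl le_rfl) (M le_rfl (by norm_num)), v22, v20]
  -- `u t P = P`
  have huP : ∀ t, Rr ρ ψ (u t) P = P := by
    intro t
    have e1 : fRep k F (u t) (bf ι 3 i j 2 2 2 2) = bf ι 3 i j 2 2 2 2 := by
      unfold bf
      simp only [fRep_mul, fRep_pow, fRep_u_xi, Nat.sub_self, pow_zero]
      rfl
    have e2 : fRep k F (u t) (bf ι 3 i j 2 2 2 0) = bf ι 3 i j 2 2 2 0 + (2 * ι t ^ 3 ^ j) • bf ι 3 i j 2 2 2 1 +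
        ((ι t ^ 3 ^ j) ^ 2) • bf ι 3 i j 2 2 2 2 := by
      unfold bf
      simp only [fRep_mul, fRep_pow, fRep_u_xi, fRep_u_et]
      funext z
      simp only [Pi.add_apply, Pi.mul_apply, Pi.smul_apply, Pi.pow_apply, smul_eq_mul]
      ring
    rw [hP, cr_eqv C.fra.pair.swap C.h2 C.h2 _ (M le_rfl le_rfl) (M le_rfl (by norm_num)), e1, e2]
    rw [map_add, map_add, map_smul, map_smul, cr_add_right, cr_add_right, cr_smul_right, cr_smul_right, r1, r2, smul_zero,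
      smul_zero, add_zero, add_zero]
  -- the module generated by `P`
  by_contra hP0
  have hQ := pair_lt_Q C.ha hne C.hi hlt
  have hwtP : ∀ c, Rr ρ ψ (h c) P = ι c ^ (1 * 3 ^ i + 1 * 3 ^ ((i + 1) % a)) • P := by
    intro c
    have k1 := (C.cwt (M le_rfl le_rfl) (M le_rfl (by norm_num)) (bf_wt ι 3 i j 2 2 2 2) (bf_wt ι 3 i j 2 2 2 0)) c
    rw [← hP] at k1
    rw [k1]
    congr 1
    have hc0 := iota_ne (ι := ι) c
    rw [show 1 * 3 ^ i + 1 * 3 ^ ((i + 1) % a) = 3 ^ i + 3 ^ ((i + 1) % a) by ring, pow_add (ι (c : F)) (3 ^ i),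
      ← pow_next ι C.fra.card C.hi]
    rw [show 2 * 3 ^ i + 2 * 3 ^ j + (2 * 3 ^ i + 0 * 3 ^ j) = 3 ^ i * 4 + 2 * 3 ^ j by ring,
      show (2 - 2) * 3 ^ i + (2 - 2) * 3 ^ j + ((2 - 2) * 3 ^ i + (2 - 0) * 3 ^ j) = 2 * 3 ^ j by
        rw [Nat.sub_self, Nat.sub_zero, zero_mul, zero_mul, zero_add, zero_add, zero_add],
      pow_add, pow_mul, inv_pow, mul_assoc, mul_inv_cancel₀ (pow_ne_zero _ hc0)]
    ring
  obtain ⟨Φ₁, hΦ1, hΦ2⟩ := exists_gen11 ι hF C.ha hne C.hi hlt huP hwtP (fun t => by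
    rw [hwP, C.uw t, ← pow_next ι C.fra.card C.hi t, ← pow_succ']) C.w2z
  -- the square of this module
  obtain ⟨Ψ₁, hΨ1, hΨ2⟩ := exists_sq C.fra C.ha hne C.hi hlt hΦ1
  have hq1 : 1 * 3 ^ i + 1 * 3 ^ ((i + 1) % a) ≤ Fintype.card F - 1 := by rw [hF]; omega
  have hq2 : 2 * 3 ^ i + 2 * 3 ^ ((i + 1) % a) ≤ Fintype.card F - 1 := by rw [hF]; omega
  have htop := top_mem ι 3 hq1
  have hPP : cr P P = 0 := by
    have h3 := C.shsh (f := bf ι 3 i j 2 2 2 2 + bf ι 3 i j 2 2 2 0) (add_mem (M le_rfl le_rfl) (M le_rfl (by norm_num)))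
    have h4 : cr (Ψ (bf ι 3 i j 2 2 2 2 + bf ι 3 i j 2 2 2 0)) (Ψ (bf ι 3 i j 2 2 2 2 + bf ι 3 i j 2 2 2 0)) =
        (2 : k) • P := by
      rw [map_add, cr_add_left, cr_add_right, cr_add_right, r1, r5, cr_comm (Ψ (bf ι 3 i j 2 2 2 0)), ← hP, zero_add,
        add_zero, ← two_smul k]
    rw [h4, cr_smul_left, cr_smul_right, smul_smul] at h3
    exact (smul_eq_zero.1 h3).resolve_left (mul_ne_zero (two_ne (k := k)) (two_ne (k := k)))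
  have h1 := hΨ2 _ htop _ htop
  rw [hΦ2, hPP, top_eq, ← top_eq2] at h1
  have h2 := Hm.zero ι hΨ1 h1.symm (top_mem ι 3 hq2) (inv_Vb' ι 3 hq2)
  have h3 := C.n1.hm hΦ1 (inv_Vb' ι 3 hq1) (fun f hf => by
    rw [hΨ2 f hf f hf]
    exact h2 _ (mul_mem ι hF C.ha hne C.hi hlt hf hf)) _ htop
  rw [hΦ2] at h3
  exact hP0 h3

theorem Cf11.cl : cr (Ψ (bf ι 3 i j 2 2 1 1)) (Ψ (bf ι 3 i j 2 2 2 1)) = 0 ∧
    cr (Ψ (bf ι 3 i j 2 2 2 1)) (Ψ (bf ι 3 i j 2 2 2 1)) = 0 := by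
  have hne := next_ne C.ha C.hi
  have hlt : (i + 1) % a < a := Nat.mod_lt _ (by have := C.ha; omega)
  have M : ∀ {x y : ℕ}, x ≤ 2 → y ≤ 2 → bf ι 3 i j 2 2 x y ∈ Vb ι (2 * 3 ^ i + 2 * 3 ^ j) := fun hx hy => C.mm hx hy
  obtain ⟨v22, v20, v02, v00, v10, v12, v11⟩ := wv (ι := ι) (i := i) (j := j)
  have h2 := two_ne (k := k)
  have s1 : cr (Ψ (bf ι 3 i j 2 2 2 2)) (Ψ (bf ι 3 i j 2 2 1 0)) +
      (2 : k) • cr (Ψ (bf ι 3 i j 2 2 1 1)) (Ψ (bf ι 3 i j 2 2 2 1)) = 0 :=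
    C.m3 (x := 1) (y := 1) (x' := 0) (y' := 0) (x'' := 1) (y'' := 0) le_rfl le_rfl (by decide) (by decide) le_rfl (by decide)
  have s2 : cr (Ψ (bf ι 3 i j 2 2 2 0)) (Ψ (bf ι 3 i j 2 2 1 2)) +
      (2 : k) • cr (Ψ (bf ι 3 i j 2 2 1 1)) (Ψ (bf ι 3 i j 2 2 2 1)) = 0 :=
    C.m3 (x := 1) (y := 0) (x' := 0) (y' := 1) (x'' := 1) (y'' := 1) le_rfl (by decide) (by decide) le_rfl le_rfl le_rfl
  have s3 : cr (Ψ (bf ι 3 i j 2 2 2 2)) (Ψ (bf ι 3 i j 2 2 2 0)) +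
      (2 : k) • cr (Ψ (bf ι 3 i j 2 2 2 1)) (Ψ (bf ι 3 i j 2 2 2 1)) = 0 :=
    C.m3 (x := 1) (y := 1) (x' := 1) (y' := 0) (x'' := 1) (y'' := 0) le_rfl le_rfl le_rfl (by decide) le_rfl (by decide)
  rw [C.pz, zero_add, smul_eq_zero] at s3
  refine ⟨?_, s3.resolve_left h2⟩
  have hw0 : cr (Ψ (bf ι 3 i j 2 2 0 0)) (Ψ (bf ι 3 i j 2 2 0 2)) = 0 := by
    have h1 := cr_eqv C.fra.pair.swap C.h2 C.h2 w (M (x := 2) (y := 2) le_rfl le_rfl) (M (x := 2) (y := 0) le_rfl (by norm_num))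
    rw [v22, v20, C.pz, map_zero] at h1
    exact h1.symm
  have h3 := w_zero ι C.fra.card C.ha hne C.hi hlt (w0 := cr (Ψ (bf ι 3 i j 2 2 0 0)) (Ψ (bf ι 3 i j 2 2 0 2)))
      (w1 := (2 : k) • cr (Ψ (bf ι 3 i j 2 2 1 0)) (Ψ (bf ι 3 i j 2 2 0 2)) +
      (2 : k) • cr (Ψ (bf ι 3 i j 2 2 0 0)) (Ψ (bf ι 3 i j 2 2 1 2)))
      (w2 := cr (Ψ (bf ι 3 i j 2 2 2 0)) (Ψ (bf ι 3 i j 2 2 0 2)) +
        (4 : k) • cr (Ψ (bf ι 3 i j 2 2 1 0)) (Ψ (bf ι 3 i j 2 2 1 2)) +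
        cr (Ψ (bf ι 3 i j 2 2 0 0)) (Ψ (bf ι 3 i j 2 2 2 2)))
      (w3 := (2 : k) • cr (Ψ (bf ι 3 i j 2 2 2 0)) (Ψ (bf ι 3 i j 2 2 1 2)) +
      (2 : k) • cr (Ψ (bf ι 3 i j 2 2 1 0)) (Ψ (bf ι 3 i j 2 2 2 2)))
      (w4 := cr (Ψ (bf ι 3 i j 2 2 2 0)) (Ψ (bf ι 3 i j 2 2 2 2))) (fun t => by
    have h4 := C.uw t
    rw [hw0, map_zero, ← hw0] at h4
    rw [← pow_next ι C.fra.card C.hi t, ← pow_succ']
    exact h4.symm.trans hw0)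
  rw [cr_comm (Ψ (bf ι 3 i j 2 2 1 0))] at h3
  have h5 : (8 : k) • cr (Ψ (bf ι 3 i j 2 2 1 1)) (Ψ (bf ι 3 i j 2 2 2 1)) = 0 := by
    linear_combination (norm := module) (2 : k) • s1 + (2 : k) • s2 - h3
  rw [smul_eq_zero] at h5
  refine h5.resolve_left ?_
  rw [show (8 : k) = 2 * 2 * 2 by norm_num]
  exact mul_ne_zero (mul_ne_zero h2 h2) h2

/-- **`Φ = 0`** -/
theorem Cf11.zero : ∀ f ∈ Vb ι (1 * 3 ^ i + 1 * 3 ^ j), Φ f = 0 := by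
  have M : ∀ {x y : ℕ}, x ≤ 2 → y ≤ 2 → bf ι 3 i j 2 2 x y ∈ Vb ι (2 * 3 ^ i + 2 * 3 ^ j) := fun hx hy => C.mm hx hy
  obtain ⟨v22, v20, v02, v00, v10, v12, v11⟩ := wv (ι := ι) (i := i) (j := j)
  obtain ⟨r1, r2, r3, r4, r5⟩ := C.rel
  have h2 := two_ne (k := k)
  obtain ⟨c1, c2⟩ := C.cl
  obtain ⟨c3, c4⟩ := C.swap.cl
  rw [bf_swap ι i j 1 1, bf_swap ι i j 1 2] at c3
  rw [bf_swap ι i j 1 2] at c4
  have c5 : cr (Ψ (bf ι 3 i j 2 2 2 2)) (Ψ (bf ι 3 i j 2 2 1 1)) +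
      (2 : k) • cr (Ψ (bf ι 3 i j 2 2 1 2)) (Ψ (bf ι 3 i j 2 2 2 1)) = 0 :=
    C.m3 (x := 1) (y := 1) (x' := 0) (y' := 1) (x'' := 1) (y'' := 0) le_rfl le_rfl (by decide) le_rfl le_rfl (by decide)
  rw [r4, zero_add, smul_eq_zero] at c5
  have c5 := c5.resolve_left h2
  have c6 : cr (Ψ (bf ι 3 i j 2 2 2 2)) (Ψ (bf ι 3 i j 2 2 0 0)) +
      (2 : k) • cr (Ψ (bf ι 3 i j 2 2 1 1)) (Ψ (bf ι 3 i j 2 2 1 1)) = 0 :=
    C.m3 (x := 1) (y := 1) (x' := 0) (y' := 0) (x'' := 0) (y'' := 0) le_rfl le_rfl (by decide) (by decide) (by decide) (by decide)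
  have hc : cr (Ψ (bf ι 3 i j 2 2 1 1)) (Ψ (bf ι 3 i j 2 2 1 1)) = 0 := by
    refine C.fra.fix _ (fix_of ?_ ?_ ?_)
    · intro t
      have e1 : fRep k F (u t) (bf ι 3 i j 2 2 1 1) = bf ι 3 i j 2 2 1 1 + (ι t ^ 3 ^ i) • bf ι 3 i j 2 2 2 1 +
          (ι t ^ 3 ^ j) • bf ι 3 i j 2 2 1 2 + (ι t ^ 3 ^ i * ι t ^ 3 ^ j) • bf ι 3 i j 2 2 2 2 := by
        unfold bf
        simp only [fRep_mul, fRep_pow, fRep_u_xi, fRep_u_et]
        funext z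
        simp only [Pi.add_apply, Pi.mul_apply, Pi.smul_apply, Pi.pow_apply, smul_eq_mul]
        ring
      rw [cr_eqv C.fra.pair.swap C.h2 C.h2 _ (M (by norm_num) (by norm_num)) (M (by norm_num) (by norm_num)), e1]
      have c1' := c1
      have c3' := c3
      have c5' := c5
      have r2' := r2
      have r3' := r3
      have r4' := r4
      rw [cr_comm] at c1' c3' c5' r2' r3' r4'
      simp only [map_add Ψ, map_smul Ψ, cr_add_left, cr_smul_left, cr_add_right, cr_smul_right, c1, c2, c3, c4, c5, r1, r2, r3,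
        r4, c1', c3', c5', r2', r3', r4', smul_zero, add_zero]
    · intro c
      have k1 := (C.cwt (M (by norm_num) (by norm_num)) (M (by norm_num) (by norm_num)) (bf_wt ι 3 i j 2 2 1 1)
        (bf_wt ι 3 i j 2 2 1 1))
      exact k1.fix c
    · rw [cr_eqv C.fra.pair.swap C.h2 C.h2 _ (M (by norm_num) (by norm_num)) (M (by norm_num) (by norm_num)), v11]
  rw [hc, smul_zero, add_zero] at c6
  have hall := gen_zero (ι := ι) (r := Rr ρ ψ) (b := 2 * 3 ^ i + 2 * 3 ^ j) (b' := 2 * 3 ^ i + 2 * 3 ^ j)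
    (B := (crB k).compl₁₂ Ψ Ψ) (fun g f hf f' hf' => (cr_eqv C.fra.pair.swap C.h2 C.h2 g hf hf').symm)
    (inv_Vb' ι 3 C.q2) (top_mem ι 3 C.q2) (top_mem ι 3 C.q2) (by
      rw [← bf_eq_mon ι 3 i j le_rfl le_rfl, v22]
      exact c6)
  have h3 := C.n2.hm C.h2 (inv_Vb' ι 3 C.q2) (fun f hf => hall f hf f hf)
  exact C.n1.hm C.h1 (inv_Vb' ι 3 C.q1) (fun f hf => by
    rw [C.sq f hf f hf]
    exact h3 _ (mul_mem ι C.fra.card C.ha C.hij C.hi C.hj hf hf))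

omit C

/-- **there are no submodules of type `11`** -/
theorem no_eleven (f0 : Fra 3 a ψ ρ ρ') (ha : 3 ≤ a) (n1 : Nts (Rr ρ ψ)) (n2 : Nts (Rr ρ' ψ)) {i j : ℕ} (hij : i ≠ j)
    (hi : i < a) (hj : j < a) : ¬ InSoc ι 3 (Rr ρ ψ) (3 ^ i + 3 ^ j) := by
  rintro ⟨X, hX, hb⟩
  have hb' : IsV ι 3 (subRep (Rr ρ ψ) X hX) (1 * 3 ^ i + 1 * 3 ^ j) := by
    rw [one_mul, one_mul]
    exact hb
  obtain ⟨Φ, hΦ, -, -, hinj⟩ := exists_Hm_of_IsV ι 3 hb'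
  obtain ⟨Ψ, hΨ, hsq⟩ := exists_sq f0 ha hij hi hj hΦ
  have C : Cf11 ι a i j ρ ρ' ψ Φ Ψ := ⟨f0, ha, hij, hi, hj, n1, n2, hΦ, hΨ, hsq⟩
  have htop := top_mem ι 3 C.q1
  exact mon_ne_zero ι _ (hinj _ htop (C.zero _ htop))

end Main

end Cfsg.Agent.R2.P3
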