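import Cfsg.Agent.R2.P3.Star

/-!
# Submodules of type `22` (R2/P3, helper17), `p = 3`

* `mm`, `mm_mem`, `mm_ts` : the span of the products of `p a c` (`a, c : Fin 3`) if `cr (p a c) (p b d)` is alternating;
* `tri_ne` : the trilinear form on a submodule of type `22` is not zero;
* `exists_compl22` : a submodule of type `22` has a complement.
-/

set_option autoImplicit false
set_option linter.unusedSectionVars false

namespace Cfsg.Agent.R2.P3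

open Matrix Cfsg.Agent.H943.SL2Rel Cfsg.Agent.H943.SL2Mod Cfsg.Agent.H943.RepAdd Cfsg.Agent.R2.H28.SL2
open Cfsg.Lie
open Cfsg.Agent.ChevalleyStructure.E6Min.Basic (Zgrp)
open Cfsg.Agent.ChevalleyStructure.E6Min.Inv
open Cfsg.Agent.H952.F4 (sh cr tf)
open Cfsg.Agent.H952.F4.Jord
open Cfsg.Agent.R2.GEO (Pair crB crB_apply tfB tfB_apply perp mem_perp finrank_perp perp_stab perp_perp)

universe u v w

section Abs

variable {k : Type u} [Field k] {p : Fin 3 → Fin 3 → (I27 → k)}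

/-- the products -/
def mm (p : Fin 3 → Fin 3 → (I27 → k)) (x : Fin 3 × Fin 3) : I27 → k := cr (p (x.1 + 1) (x.2 + 1)) (p (x.1 + 2) (x.2 + 2))

theorem fin3 : ∀ a b : Fin 3, a = b ∨ (b = a + 1 ∧ ∃ e, a = e + 1 ∧ b = e + 2) ∨ (a = b + 1 ∧ ∃ e, b = e + 1 ∧ a = e + 2) := by
  decide

variable (hp : ∀ a b c d, cr (p a c) (p b d) + cr (p a d) (p b c) = 0) (h2 : (2 : k) ≠ 0)

include hp

theorem swp (a b c d : Fin 3) : cr (p a c) (p b d) = -cr (p a d) (p b c) := eq_neg_of_add_eq_zero_left (hp a b c d)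

include h2

theorem eq_left (a c d : Fin 3) : cr (p a c) (p a d) = 0 := by
  have h1 := hp a a c d
  rw [cr_comm (p a d), ← two_smul k, smul_eq_zero] at h1
  exact h1.resolve_left h2

theorem eq_right (a b c : Fin 3) : cr (p a c) (p b c) = 0 := by
  have h1 := hp a b c c
  rw [← two_smul k, smul_eq_zero] at h1
  exact h1.resolve_left h2

theorem mm_mem (a b c d : Fin 3) : cr (p a c) (p b d) ∈ Submodule.span k (Set.range (mm p)) := by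
  have key : ∀ e f, mm p (e, f) ∈ Submodule.span k (Set.range (mm p)) := fun e f => Submodule.subset_span ⟨_, rfl⟩
  rcases fin3 a b with rfl | ⟨-, e, rfl, rfl⟩ | ⟨-, e, rfl, rfl⟩
  · rw [eq_left hp h2]
    exact zero_mem _
  · rcases fin3 c d with rfl | ⟨-, f, rfl, rfl⟩ | ⟨-, f, rfl, rfl⟩
    · rw [eq_right hp h2]
      exact zero_mem _
    · exact key e f
    · rw [swp hp]
      exact neg_mem (key e f)
  · rcases fin3 c d with rfl | ⟨-, f, rfl, rfl⟩ | ⟨-, f, rfl, rfl⟩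
    · rw [eq_right hp h2]
      exact zero_mem _
    · rw [cr_comm, swp hp]
      exact neg_mem (key e f)
    · rw [cr_comm]
      exact key e f

omit h2 in
/-- the products with a given factor -/
theorem mm_eq {x y : Fin 3 × Fin 3} (h1 : y.1 ≠ x.1) (h2 : y.2 ≠ x.2) : ∃ (s : k) (z : Fin 3 × Fin 3),
    mm p x = s • cr (p y.1 y.2) (p z.1 z.2) := by
  obtain ⟨a, c⟩ := x
  obtain ⟨f, e⟩ := y
  have key : ∀ a f : Fin 3, f ≠ a → f = a + 1 ∨ f = a + 2 := by decide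
  unfold mm
  rcases key a f h1 with rfl | rfl
  · rcases key c e h2 with rfl | rfl
    · exact ⟨1, (a + 2, c + 2), by rw [one_smul]⟩
    · refine ⟨-1, (a + 2, c + 1), ?_⟩
      rw [neg_one_smul]
      exact swp hp _ _ _ _
  · rcases key c e h2 with rfl | rfl
    · refine ⟨-1, (a + 1, c + 2), ?_⟩
      rw [neg_one_smul, cr_comm (p (a + 2) (c + 1))]
      exact swp hp _ _ _ _
    · exact ⟨1, (a + 1, c + 1), by rw [one_smul, cr_comm]⟩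

omit h2 in
theorem mm_ts (hA : ∀ x y z : Fin 3 × Fin 3, cr (cr (p x.1 x.2) (p y.1 y.2)) (cr (p x.1 x.2) (p z.1 z.2)) = 0)
    {x y : I27 → k} (hx : x ∈ Submodule.span k (Set.range (mm p))) (hy : y ∈ Submodule.span k (Set.range (mm p))) :
    cr x y = 0 := by
  have key : ∀ x y : Fin 3 × Fin 3, cr (mm p x) (mm p y) = 0 := by
    intro x y
    have ex : ∀ a b : Fin 3, ∃ c, c ≠ a ∧ c ≠ b := by decide
    obtain ⟨f, hf1, hf2⟩ := ex x.1 y.1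
    obtain ⟨e, he1, he2⟩ := ex x.2 y.2
    obtain ⟨s, z, h3⟩ := mm_eq hp (x := x) (y := (f, e)) hf1 he1
    obtain ⟨s', z', h4⟩ := mm_eq hp (x := y) (y := (f, e)) hf2 he2
    rw [h3, h4, cr_smul_left, cr_smul_right, hA (f, e) z z', smul_zero, smul_zero]
  induction hx using Submodule.span_induction with
  | mem x hx =>
    obtain ⟨x', rfl⟩ := hx
    induction hy using Submodule.span_induction with
    | mem y hy =>
      obtain ⟨y', rfl⟩ := hy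
      exact key x' y'
    | zero =>
      have := cr_smul_right (0 : k) (mm p x') 0
      rwa [zero_smul, zero_smul] at this
    | add y y' _ _ h1 h2 => rw [cr_add_right, h1, h2, add_zero]
    | smul c y _ h1 => rw [cr_smul_right, h1, smul_zero]
  | zero =>
    have := cr_smul_left (0 : k) 0 y
    rwa [zero_smul, zero_smul] at this
  | add x x' _ _ h1 h2 => rw [cr_add_left, h1, h2, add_zero]
  | smul c x _ h1 => rw [cr_smul_left, h1, smul_zero]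

omit hp in
/-- squares of squares -/
theorem crcr {P Q R : I27 → k} (hP : sh P = 0) (hQ : sh Q = 0) (hR : sh R = 0)
    (h : ∀ s : k, sh (sh (s • P + Q + R)) = 0) (hPQ : sh (sh (P + Q)) = 0) (hPR : sh (sh (P + R)) = 0)
    (hQR : sh (sh (Q + R)) = 0) : cr (cr P Q) (cr P R) = 0 := by
  have e : ∀ s : k, sh (s • P + Q + R) = s • cr P Q + s • cr P R + cr Q R := by
    intro s
    rw [sh_add, sh_add, sh_smul, hP, hQ, hR, cr_add_left, cr_smul_left, cr_smul_left]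
    module
  have e1 : ∀ {P Q : I27 → k}, sh P = 0 → sh Q = 0 → sh (P + Q) = cr P Q := by
    intro P Q h1 h2
    rw [sh_add, h1, h2, zero_add, zero_add]
  rw [e1 hP hQ] at hPQ
  rw [e1 hP hR] at hPR
  rw [e1 hQ hR] at hQR
  have e2 : ∀ s : k, sh (sh (s • P + Q + R)) = (s ^ 2) • cr (cr P Q) (cr P R) + s • cr (cr P Q) (cr Q R) +
      s • cr (cr P R) (cr Q R) := by
    intro s
    rw [e, sh_add, sh_add, sh_smul, sh_smul, hPQ, hPR, hQR, cr_add_left, cr_smul_left, cr_smul_left, cr_smul_left,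
      cr_smul_right]
    module
  have k1 := h 1
  have k2 := h (-1)
  rw [e2] at k1 k2
  have k3 : (2 : k) • cr (cr P Q) (cr P R) = 0 := by
    linear_combination (norm := module) k1 + k2
  exact (smul_eq_zero.1 k3).resolve_left h2

end Abs

section Main

variable {k : Type u} [Field k] [DecidableEq k] [IsAlgClosed k] {F : Type w} [Field F] [Fintype F] [DecidableEq F]
  {ι : F →+* k} [CharP k 3] [CharP F 3] {a : ℕ}
variable {ψ : SpecialLinearGroup (Fin 2) F →* ↥(Zgrp k)} {ρ ρ' : Representation k ↥(Zgrp k) (I27 → k)}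

/-- a pair of digits -/
structure Pr (a i j : ℕ) : Prop where
  ha : 3 ≤ a
  ne : i ≠ j
  hi : i < a
  hj : j < a

theorem Pr.q {i j : ℕ} (P : Pr a i j) (hF : Fintype.card F = 3 ^ a) : 2 * 3 ^ i + 2 * 3 ^ j ≤ Fintype.card F - 1 := by
  have := pair_lt_Q P.ha P.ne P.hi P.hj
  rw [hF]
  omega

theorem Pr.mm {i j : ℕ} (P : Pr a i j) (hF : Fintype.card F = 3 ^ a) {x y : ℕ} (hx : x ≤ 2) (hy : y ≤ 2) :
    bf ι 3 i j 2 2 x y ∈ Vb ι (2 * 3 ^ i + 2 * 3 ^ j) :=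
  bf_mem ι 3 P.ne (by norm_num) (by norm_num) (P.q hF) hx hy

theorem wtop {i j : ℕ} : fRep k F w (bf ι 3 i j 2 2 2 2) = bf ι 3 i j 2 2 0 0 := by
  rw [w_bf ι i j le_rfl le_rfl, show (-1 : k) ^ (2 + 2) = 1 from Even.neg_one_pow (by decide), one_smul]

/-- **trilinear forms on three modules of type `22`** -/
theorem gen22 (f0 : Fra 3 a ψ ρ ρ') {i j i' j' i'' j'' : ℕ} (P : Pr a i j) (P' : Pr a i' j') (P'' : Pr a i'' j'')
    {Φ Φ' Φ'' : (F × F → k) →ₗ[k] (I27 → k)} (hΦ : Hm ι (Rr ρ ψ) (2 * 3 ^ i + 2 * 3 ^ j) Φ)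
    (hΦ' : Hm ι (Rr ρ ψ) (2 * 3 ^ i' + 2 * 3 ^ j') Φ') (hΦ'' : Hm ι (Rr ρ ψ) (2 * 3 ^ i'' + 2 * 3 ^ j'') Φ'')
    (h : ∀ x ≤ 2, ∀ y ≤ 2, (2 * 3 ^ i + 2 * 3 ^ j + (x * 3 ^ i'' + y * 3 ^ j'')) % (3 ^ a - 1) =
      (2 * 3 ^ i' + 2 * 3 ^ j' + ((2 - x) * 3 ^ i'' + (2 - y) * 3 ^ j'')) % (3 ^ a - 1) →
      tf (cr (Φ (bf ι 3 i j 2 2 2 2)) (Φ' (bf ι 3 i' j' 2 2 0 0))) (Φ'' (bf ι 3 i'' j'' 2 2 x y)) = 0) :
    ∀ f ∈ Vb ι (2 * 3 ^ i + 2 * 3 ^ j), ∀ f' ∈ Vb ι (2 * 3 ^ i' + 2 * 3 ^ j'), ∀ f'' ∈ Vb ι (2 * 3 ^ i'' + 2 * 3 ^ j''),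
      tf (cr (Φ f) (Φ' f')) (Φ'' f'') = 0 := by
  have hF := f0.card
  refine gen_tri (Trr_inv f0.pair hΦ hΦ' hΦ'') (inv_Vb' ι 3 (P'.q hF)) (inv_Vb' ι 3 (P''.q hF)) (top_mem ι 3 (P.q hF))
    (top_mem ι 3 (P'.q hF)) ?_
  intro f hf
  have e1 : mon ι (2 * 3 ^ i + 2 * 3 ^ j) (2 * 3 ^ i + 2 * 3 ^ j) = bf ι 3 i j 2 2 2 2 :=
    (bf_eq_mon ι 3 i j le_rfl le_rfl).symm
  have e2 : mon ι (2 * 3 ^ i' + 2 * 3 ^ j') (2 * 3 ^ i' + 2 * 3 ^ j') = bf ι 3 i' j' 2 2 2 2 :=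
    (bf_eq_mon ι 3 i' j' le_rfl le_rfl).symm
  rw [e1, e2, wtop]
  refine Vb_le_bf ι 3 P''.ne (by norm_num : 2 < 3) (by norm_num : 2 < 3)
    (P := fun f => Trr Φ Φ' Φ'' (bf ι 3 i j 2 2 2 2) (bf ι 3 i' j' 2 2 0 0) f = 0) ?_ ?_ ?_ ?_ hf
  · rw [map_zero]
  · intro f f' h1 h2
    rw [map_add, h1, h2, add_zero]
  · intro c f h1
    rw [map_smul, h1, smul_zero]
  · intro x hx y hy
    by_contra h0
    apply h0
    refine h x hx y hy ?_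
    have h1 := tri_wt f0.pair (hΦ.wt (P.mm hF le_rfl le_rfl) (bf_wt ι 3 i j 2 2 2 2))
      (hΦ'.wt (P'.mm hF (Nat.zero_le 2) (Nat.zero_le 2)) (bf_wt ι 3 i' j' 2 2 0 0))
      (hΦ''.wt (P''.mm hF hx hy) (bf_wt ι 3 i'' j'' 2 2 x y)) h0
    rw [hF] at h1
    simpa using h1

/-- the trilinear form on one module -/
theorem gen22_one (f0 : Fra 3 a ψ ρ ρ') {i j : ℕ} (P : Pr a i j) {Φ Φ' Φ'' : (F × F → k) →ₗ[k] (I27 → k)}
    (hΦ : Hm ι (Rr ρ ψ) (2 * 3 ^ i + 2 * 3 ^ j) Φ) (hΦ' : Hm ι (Rr ρ ψ) (2 * 3 ^ i + 2 * 3 ^ j) Φ')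
    (hΦ'' : Hm ι (Rr ρ ψ) (2 * 3 ^ i + 2 * 3 ^ j) Φ'')
    (h : tf (cr (Φ (bf ι 3 i j 2 2 2 2)) (Φ' (bf ι 3 i j 2 2 0 0))) (Φ'' (bf ι 3 i j 2 2 1 1)) = 0) :
    ∀ f ∈ Vb ι (2 * 3 ^ i + 2 * 3 ^ j), ∀ f' ∈ Vb ι (2 * 3 ^ i + 2 * 3 ^ j), ∀ f'' ∈ Vb ι (2 * 3 ^ i + 2 * 3 ^ j),
      tf (cr (Φ f) (Φ' f')) (Φ'' f'') = 0 := by
  refine gen22 f0 P P P hΦ hΦ' hΦ'' fun x hx y hy h3 => ?_
  have hQ := pair_lt_Q P.ha P.ne P.hi P.hj
  have h5 : x * 3 ^ i + y * 3 ^ j ≡ (2 - x) * 3 ^ i + (2 - y) * 3 ^ j [MOD 3 ^ a - 1] := Nat.ModEq.add_left_cancel' _ h3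
  have h6 : ∀ {r s : ℕ}, r ≤ 2 → s ≤ 2 → r * 3 ^ i + s * 3 ^ j < 3 ^ a - 1 := by
    intro r s hr hs
    have h2 : r * 3 ^ i ≤ 2 * 3 ^ i := Nat.mul_le_mul_right _ (by omega)
    have h3 : s * 3 ^ j ≤ 2 * 3 ^ j := Nat.mul_le_mul_right _ (by omega)
    omega
  have h7 := Nat.ModEq.eq_of_lt_of_lt h5 (h6 hx hy) (h6 (by omega) (by omega))
  have h8 := rs_inj P.ne (by omega) (by omega) (by omega) (by omega) h7
  obtain rfl : x = 1 := by omega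
  obtain rfl : y = 1 := by omega
  exact h

/-- the cubic form vanishes if the trilinear form does -/
theorem nz22 (f0 : Fra 3 a ψ ρ ρ') {i j : ℕ} (P : Pr a i j) {Φ : (F × F → k) →ₗ[k] (I27 → k)}
    (hΦ : Hm ι (Rr ρ ψ) (2 * 3 ^ i + 2 * 3 ^ j) Φ)
    (h : tf (cr (Φ (bf ι 3 i j 2 2 2 2)) (Φ (bf ι 3 i j 2 2 0 0))) (Φ (bf ι 3 i j 2 2 1 1)) = 0) :
    ∀ f ∈ Vb ι (2 * 3 ^ i + 2 * 3 ^ j), cubicT (Φ f) = 0 := by
  have hF := f0.card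
  refine N_zero f0.pair hΦ (inv_Vb' ι 3 (P.q hF)) (top_mem ι 3 (P.q hF)) (gen22_one f0 P hΦ hΦ hΦ h) ?_
  have e1 : mon ι (2 * 3 ^ i + 2 * 3 ^ j) (2 * 3 ^ i + 2 * 3 ^ j) = bf ι 3 i j 2 2 2 2 :=
    (bf_eq_mon ι 3 i j le_rfl le_rfl).symm
  rw [e1]
  have w1 := hΦ.wt (P.mm hF le_rfl le_rfl) (bf_wt ι 3 i j 2 2 2 2)
  refine N_wt (ι := ι) (ψ := ψ) (m := 2 * 3 ^ i + 2 * 3 ^ j) f0.pair (fun c => ?_) ?_
  · rw [w1 c]
    simp
  · have hQ := pair_lt_Q P.ha P.ne P.hi P.hj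
    rw [Nat.mod_eq_of_lt (by rw [hF]; omega)]
    have := Nat.pow_pos (n := i) (show 0 < 3 by norm_num)
    omega

/-- the images of the monomials -/
def pm (ι : F →+* k) (i j : ℕ) (Φ : (F × F → k) →ₗ[k] (I27 → k)) (x y : Fin 3) : I27 → k :=
  Φ (bf ι 3 i j 2 2 (x : ℕ) (y : ℕ))

theorem pm_star (f0 : Fra 3 a ψ ρ ρ') {i j : ℕ} (P : Pr a i j) (hn : No1 ι (Rr ρ' ψ))
    {Φ : (F × F → k) →ₗ[k] (I27 → k)} (hΦ : Hm ι (Rr ρ ψ) (2 * 3 ^ i + 2 * 3 ^ j) Φ) (a b c d : Fin 3) :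
    cr (pm ι i j Φ a c) (pm ι i j Φ b d) + cr (pm ι i j Φ a d) (pm ι i j Φ b c) = 0 := by
  have hF := f0.card
  have hQ := P.q hF (F := F)
  have hqi : 2 * 3 ^ i ≤ Fintype.card F - 1 := by omega
  have hqj : 2 * 3 ^ j ≤ Fintype.card F - 1 := by omega
  exact star f0 P.ha P.ne P.hi P.hj hn hΦ (two_mem hqi (Nat.le_of_lt_succ a.2)) (two_mem hqi (Nat.le_of_lt_succ b.2))
    (two_mem hqj (Nat.le_of_lt_succ c.2)) (two_mem hqj (Nat.le_of_lt_succ d.2))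

theorem bf_fin {i j x y : ℕ} (hx : x ≤ 2) (hy : y ≤ 2) {Φ : (F × F → k) →ₗ[k] (I27 → k)} :
    Φ (bf ι 3 i j 2 2 x y) = pm ι i j Φ ⟨x, Nat.lt_succ_of_le hx⟩ ⟨y, Nat.lt_succ_of_le hy⟩ := rfl

/-- the products are in the span of `mm` -/
theorem cr_mem (f0 : Fra 3 a ψ ρ ρ') {i j : ℕ} (P : Pr a i j) (hn : No1 ι (Rr ρ' ψ))
    {Φ : (F × F → k) →ₗ[k] (I27 → k)} (hΦ : Hm ι (Rr ρ ψ) (2 * 3 ^ i + 2 * 3 ^ j) Φ) {f f' : F × F → k}
    (hf : f ∈ Vb ι (2 * 3 ^ i + 2 * 3 ^ j)) (hf' : f' ∈ Vb ι (2 * 3 ^ i + 2 * 3 ^ j)) :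
    cr (Φ f) (Φ f') ∈ Submodule.span k (Set.range (mm (pm ι i j Φ))) := by
  have hl : ∀ v : I27 → k, cr 0 v = 0 := fun v => by
    have := cr_smul_left (0 : k) 0 v
    rwa [zero_smul, zero_smul] at this
  have hr : ∀ v : I27 → k, cr v 0 = 0 := fun v => by rw [cr_comm, hl]
  refine Vb_le_bf ι 3 P.ne (by norm_num : 2 < 3) (by norm_num : 2 < 3)
    (P := fun f => cr (Φ f) (Φ f') ∈ Submodule.span k (Set.range (mm (pm ι i j Φ)))) ?_ ?_ ?_ ?_ hf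
  · rw [map_zero, hl]
    exact zero_mem _
  · intro f g h1 h2
    rw [map_add, cr_add_left]
    exact add_mem h1 h2
  · intro c f h
    rw [map_smul, cr_smul_left]
    exact Submodule.smul_mem _ _ h
  · intro x hx y hy
    refine Vb_le_bf ι 3 P.ne (by norm_num : 2 < 3) (by norm_num : 2 < 3)
      (P := fun f' => cr (Φ (bf ι 3 i j 2 2 x y)) (Φ f') ∈ Submodule.span k (Set.range (mm (pm ι i j Φ)))) ?_ ?_ ?_ ?_ hf'
    · rw [map_zero, hr]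
      exact zero_mem _
    · intro f g h1 h2
      rw [map_add, cr_add_right]
      exact add_mem h1 h2
    · intro c f h
      rw [map_smul, cr_smul_right]
      exact Submodule.smul_mem _ _ h
    · intro x' hx' y' hy'
      rw [bf_fin hx hy, bf_fin hx' hy']
      exact mm_mem (pm_star f0 P hn hΦ) (two_ne (k := k)) _ _ _ _

theorem mm_stab (f0 : Fra 3 a ψ ρ ρ') {i j : ℕ} (P : Pr a i j) (hn : No1 ι (Rr ρ' ψ))
    {Φ : (F × F → k) →ₗ[k] (I27 → k)} (hΦ : Hm ι (Rr ρ ψ) (2 * 3 ^ i + 2 * 3 ^ j) Φ)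
    (g : SpecialLinearGroup (Fin 2) F) {x : I27 → k} (hx : x ∈ Submodule.span k (Set.range (mm (pm ι i j Φ)))) :
    Rr ρ' ψ g x ∈ Submodule.span k (Set.range (mm (pm ι i j Φ))) := by
  have hF := f0.card
  induction hx using Submodule.span_induction with
  | mem x hx =>
    obtain ⟨⟨b, c⟩, rfl⟩ := hx
    have m1 : ∀ x y : Fin 3, bf ι 3 i j 2 2 (x : ℕ) (y : ℕ) ∈ Vb ι (2 * 3 ^ i + 2 * 3 ^ j) := fun x y =>
      P.mm hF (Nat.le_of_lt_succ x.2) (Nat.le_of_lt_succ y.2)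
    have h1 : Rr ρ' ψ g (mm (pm ι i j Φ) (b, c)) = _ := cr_eqv f0.pair hΦ hΦ g (m1 (b + 1) (c + 1)) (m1 (b + 2) (c + 2))
    rw [h1]
    exact cr_mem f0 P hn hΦ (inv_Vb' ι 3 (P.q hF) g _ (m1 _ _)) (inv_Vb' ι 3 (P.q hF) g _ (m1 _ _))
  | zero => rw [map_zero]; exact zero_mem _
  | add x y _ _ h1 h2 => rw [map_add]; exact add_mem h1 h2
  | smul c x _ h1 => rw [map_smul]; exact Submodule.smul_mem _ _ h1

/-- **the trilinear form is not zero** -/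
theorem tri_ne (f0 : Fra 3 a ψ ρ ρ') (n1 : Nts (Rr ρ ψ)) (n2 : Nts (Rr ρ' ψ)) {i j : ℕ} (P : Pr a i j)
    (hn : No1 ι (Rr ρ' ψ)) {Φ : (F × F → k) →ₗ[k] (I27 → k)} (hΦ : Hm ι (Rr ρ ψ) (2 * 3 ^ i + 2 * 3 ^ j) Φ)
    (h0 : ∃ f ∈ Vb ι (2 * 3 ^ i + 2 * 3 ^ j), Φ f ≠ 0) :
    tf (cr (Φ (bf ι 3 i j 2 2 2 2)) (Φ (bf ι 3 i j 2 2 0 0))) (Φ (bf ι 3 i j 2 2 1 1)) ≠ 0 := by
  intro h
  have hF := f0.card
  have h2 := two_ne (k := k)
  have hN := nz22 f0 P hΦ h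
  have hps := pm_star f0 P hn hΦ
  have hss : ∀ f ∈ Vb ι (2 * 3 ^ i + 2 * 3 ^ j), sh (sh (Φ f)) = 0 := fun f hf => by rw [sh_sh, hN f hf, zero_smul]
  have m1 : ∀ x y : Fin 3, bf ι 3 i j 2 2 (x : ℕ) (y : ℕ) ∈ Vb ι (2 * 3 ^ i + 2 * 3 ^ j) := fun x y =>
    P.mm hF (Nat.le_of_lt_succ x.2) (Nat.le_of_lt_succ y.2)
  have hsh : ∀ x y : Fin 3, sh (pm ι i j Φ x y) = 0 := by
    intro x y
    have h1 := eq_left hps h2 x y y
    rw [cr_self, smul_eq_zero] at h1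
    exact h1.resolve_left h2
  have hM : Submodule.span k (Set.range (mm (pm ι i j Φ))) = ⊥ := by
    refine n2 _ (fun g x hx => mm_stab f0 P hn hΦ g hx) fun x hx => ?_
    have h1 := mm_ts hps (fun x y z => crcr h2 (hsh _ _) (hsh _ _) (hsh _ _) (fun s => by
      unfold pm
      rw [← map_smul, ← map_add, ← map_add]
      exact hss _ (add_mem (add_mem (Submodule.smul_mem _ _ (m1 _ _)) (m1 _ _)) (m1 _ _)))
      (by unfold pm; rw [← map_add]; exact hss _ (add_mem (m1 _ _) (m1 _ _)))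
      (by unfold pm; rw [← map_add]; exact hss _ (add_mem (m1 _ _) (m1 _ _)))
      (by unfold pm; rw [← map_add]; exact hss _ (add_mem (m1 _ _) (m1 _ _)))) hx hx
    rw [cr_self, smul_eq_zero] at h1
    exact h1.resolve_left h2
  obtain ⟨f, hf, hf0⟩ := h0
  apply hf0
  refine n1.hm hΦ (inv_Vb' ι 3 (P.q hF)) (fun f hf => ?_) f hf
  have h3 := cr_mem f0 P hn hΦ hf hf
  rw [hM] at h3
  exact (Submodule.mem_bot k).1 h3

/-- stable subspaces have dimension at least 9 -/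
def Nine (r : Representation k (SpecialLinearGroup (Fin 2) F) (I27 → k)) : Prop :=
  ∀ W : Submodule k (I27 → k), (∀ g, ∀ x ∈ W, r g x ∈ W) → W ≠ ⊥ → 9 ≤ Module.finrank k W

/-- **complements** -/
theorem exists_compl22 (f0 : Fra 3 a ψ ρ ρ') (n1 : Nts (Rr ρ ψ)) (n2 : Nts (Rr ρ' ψ)) {i j : ℕ} (P : Pr a i j)
    (hn : No1 ι (Rr ρ' ψ)) (d1 : Nine (Rr ρ ψ)) (d2 : Nine (Rr ρ' ψ)) {X : Submodule k (I27 → k)}
    (hX : ∀ g, ∀ x ∈ X, Rr ρ ψ g x ∈ X) (hX9 : Module.finrank k X = 9) {Φ : (F × F → k) →ₗ[k] (I27 → k)}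
    (hΦ : Hm ι (Rr ρ ψ) (2 * 3 ^ i + 2 * 3 ^ j) Φ) (hΦX : ∀ x, x ∈ X ↔ ∃ f ∈ Vb ι (2 * 3 ^ i + 2 * 3 ^ j), Φ f = x)
    (h0 : ∃ f ∈ Vb ι (2 * 3 ^ i + 2 * 3 ^ j), Φ f ≠ 0) :
    ∃ K : Submodule k (I27 → k), (∀ g, ∀ x ∈ K, Rr ρ ψ g x ∈ K) ∧ IsCompl X K ∧ Module.finrank k K = 18 := by
  have hF := f0.card
  have hne := tri_ne f0 n1 n2 P hn hΦ h0
  have m22 : bf ι 3 i j 2 2 2 2 ∈ Vb ι (2 * 3 ^ i + 2 * 3 ^ j) := P.mm hF le_rfl le_rfl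
  have m00 : bf ι 3 i j 2 2 0 0 ∈ Vb ι (2 * 3 ^ i + 2 * 3 ^ j) := P.mm hF (by norm_num) (by norm_num)
  have m11 : bf ι 3 i j 2 2 1 1 ∈ Vb ι (2 * 3 ^ i + 2 * 3 ^ j) := P.mm hF (by norm_num) (by norm_num)
  obtain ⟨M, hM⟩ : ∃ M, M = Submodule.span k (Set.range (mm (pm ι i j Φ))) := ⟨_, rfl⟩
  have hMst : ∀ g, ∀ x ∈ M, Rr ρ' ψ g x ∈ M := fun g x hx => by
    rw [hM] at hx ⊢
    exact mm_stab f0 P hn hΦ g hx
  have hMc : ∀ f ∈ Vb ι (2 * 3 ^ i + 2 * 3 ^ j), ∀ f' ∈ Vb ι (2 * 3 ^ i + 2 * 3 ^ j), cr (Φ f) (Φ f') ∈ M := by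
    intro f hf f' hf'
    rw [hM]
    exact cr_mem f0 P hn hΦ hf hf'
  have hM9 : Module.finrank k M ≤ 9 := by
    rw [hM]
    refine (finrank_range_le_card (mm (pm ι i j Φ))).trans ?_
    rw [Fintype.card_prod, Fintype.card_fin]
  have hM0 : M ≠ ⊥ := by
    intro h
    apply hne
    have h1 := hMc _ m22 _ m00
    rw [h, Submodule.mem_bot] at h1
    rw [h1]
    exact Cfsg.Agent.R2.GEO.tf_zero_left _
  have hM9' := d2 M hMst hM0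
  have hKst : ∀ g, ∀ x ∈ perp M, Rr ρ ψ g x ∈ perp M := fun g x hx =>
    perp_stab ψ f0.pair.swap (W := M) (fun g x hx => hMst g x hx) g hx
  have hK18 : Module.finrank k (perp M) = 18 := by
    have := finrank_perp M
    omega
  have hinf : X ⊓ perp M = ⊥ := by
    by_contra hb
    have h1 := d1 (X ⊓ perp M) (fun g x hx => ⟨hX g x hx.1, hKst g x hx.2⟩) hb
    have h2 : X ⊓ perp M = X := Submodule.eq_of_le_of_finrank_le inf_le_left (by omega)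
    apply hne
    have h3 : Φ (bf ι 3 i j 2 2 1 1) ∈ X ⊓ perp M := by
      rw [h2, hΦX]
      exact ⟨_, m11, rfl⟩
    exact h3.2 _ (hMc _ m22 _ m00)
  refine ⟨perp M, hKst, ?_, hK18⟩
  rw [isCompl_iff, disjoint_iff, codisjoint_iff]
  refine ⟨hinf, ?_⟩
  apply Submodule.eq_top_of_finrank_eq
  have h7 := Submodule.finrank_sup_add_finrank_inf_eq X (perp M)
  rw [hinf, finrank_bot, add_zero] at h7
  rw [h7, hX9, hK18, Module.finrank_fintype_fun_eq_card]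
  rfl

end Main

end Cfsg.Agent.R2.P3
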