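import Mathlib

/-!
# Sums of digits (R2/P3, helper17), `p = 3`

* `ds_eq` : `-1 ≤ v l ≤ 2` and `3 ^ a - 1 ∣ 2 ∑ v l 3 ^ l` imply that `v` is constant;
* `ds_or` : `|v l| ≤ 2` and `3 ^ a - 1 ∣ 2 ∑ v l 3 ^ l` imply that `v` is zero or has no zero;
* `wt_dvd` : the weights of trilinear forms.
-/

set_option autoImplicit false

namespace Cfsg.Agent.R2.P3

theorem ds_step (n : ℕ) (u : ℕ → ℤ) : ∑ l ∈ Finset.range (n + 1), u l * 3 ^ l =
    3 * ∑ l ∈ Finset.range n, u (l + 1) * 3 ^ l + u 0 := by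
  rw [Finset.sum_range_succ', pow_zero, mul_one, Finset.mul_sum]
  congr 1
  refine Finset.sum_congr rfl fun l _ => by ring

theorem ds_zero : ∀ (n : ℕ) (u : ℕ → ℤ), (∀ l < n, -2 ≤ u l ∧ u l ≤ 2) → ∑ l ∈ Finset.range n, u l * 3 ^ l = 0 →
    ∀ l < n, u l = 0 := by
  intro n
  induction n with
  | zero => intro u _ _ l hl; omega
  | succ n ih =>
    intro u hu h
    rw [ds_step] at h
    have h0 := hu 0 (by omega)
    have h1 : u 0 = 0 := by omega
    have h2 : ∑ l ∈ Finset.range n, u (l + 1) * 3 ^ l = 0 := by omega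
    intro l hl
    match l with
    | 0 => exact h1
    | l + 1 => exact ih (fun l => u (l + 1)) (fun l hl => hu (l + 1) (by omega)) h2 l (by omega)

theorem ds_carry : ∀ (n : ℕ) (u : ℕ → ℤ) (c : ℤ), (∀ l < n, -3 ≤ u l ∧ u l ≤ 1) → 0 ≤ c → c ≤ 1 →
    ∑ l ∈ Finset.range n, u l * 3 ^ l = c → ∀ l < n, u l ≠ -1 := by
  intro n
  induction n with
  | zero => intro u c _ _ _ _ l hl; omega
  | succ n ih =>
    intro u c hu hc0 hc1 h
    rw [ds_step] at h
    have h0 := hu 0 (by omega)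
    obtain ⟨S, hS⟩ : ∃ S, S = ∑ l ∈ Finset.range n, u (l + 1) * 3 ^ l := ⟨_, rfl⟩
    rw [← hS] at h
    intro l hl
    match l with
    | 0 => omega
    | l + 1 =>
      exact ih (fun l => u (l + 1)) S (fun l hl => hu (l + 1) (by omega)) (by omega) (by omega) hS.symm l (by omega)

theorem geo (a : ℕ) : 2 * ∑ l ∈ Finset.range a, (3 : ℤ) ^ l = 3 ^ a - 1 := by
  induction a with
  | zero => norm_num
  | succ a ih =>
    rw [Finset.sum_range_succ, mul_add, ih, pow_succ]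
    ring

theorem ds_nonneg {a : ℕ} {u : ℕ → ℤ} (hu : ∀ l < a, 0 ≤ u l) (h : ∑ l ∈ Finset.range a, u l * 3 ^ l = 0) :
    ∀ l < a, u l = 0 := by
  intro l hl
  have h1 := (Finset.sum_eq_zero_iff_of_nonneg (fun l hl => mul_nonneg (hu l (Finset.mem_range.1 hl))
    (pow_nonneg (by norm_num : (0 : ℤ) ≤ 3) l))).1 h l (Finset.mem_range.2 hl)
  exact (mul_eq_zero.1 h1).resolve_right (pow_ne_zero _ (by norm_num))

theorem ds_shift {a : ℕ} {v : ℕ → ℤ} {m : ℤ} (h : 2 * ∑ l ∈ Finset.range a, v l * 3 ^ l = (3 ^ a - 1) * m) :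
    ∑ l ∈ Finset.range a, (v l - m) * 3 ^ l = 0 := by
  have h1 : ∑ l ∈ Finset.range a, (v l - m) * 3 ^ l =
      ∑ l ∈ Finset.range a, v l * 3 ^ l - m * ∑ l ∈ Finset.range a, (3 : ℤ) ^ l := by
    rw [Finset.mul_sum, ← Finset.sum_sub_distrib]
    refine Finset.sum_congr rfl fun l _ => by ring
  have h2 := geo a
  rw [h1]
  have h3 : (2 : ℤ) * (∑ l ∈ Finset.range a, v l * 3 ^ l - m * ∑ l ∈ Finset.range a, (3 : ℤ) ^ l) = 0 := by
    rw [mul_sub, h, ← h2]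
    ring
  exact (mul_eq_zero.1 h3).resolve_left (by norm_num)

theorem ds_le {a : ℕ} {v : ℕ → ℤ} {c : ℤ} (hv : ∀ l < a, v l ≤ c) :
    2 * ∑ l ∈ Finset.range a, v l * 3 ^ l ≤ (3 ^ a - 1) * c := by
  rw [← geo, mul_assoc, Finset.sum_mul]
  refine mul_le_mul_of_nonneg_left (Finset.sum_le_sum fun l hl => ?_) (by norm_num)
  rw [mul_comm]
  exact mul_le_mul_of_nonneg_left (hv l (Finset.mem_range.1 hl)) (by positivity)

theorem le_ds {a : ℕ} {v : ℕ → ℤ} {c : ℤ} (hv : ∀ l < a, c ≤ v l) :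
    (3 ^ a - 1) * c ≤ 2 * ∑ l ∈ Finset.range a, v l * 3 ^ l := by
  rw [← geo, mul_assoc, Finset.sum_mul]
  refine mul_le_mul_of_nonneg_left (Finset.sum_le_sum fun l hl => ?_) (by norm_num)
  rw [mul_comm (v l)]
  exact mul_le_mul_of_nonneg_left (hv l (Finset.mem_range.1 hl)) (by positivity)

theorem Q_pos {a : ℕ} (ha : 1 ≤ a) : (0 : ℤ) < 3 ^ a - 1 := by
  have h1 : (3 : ℤ) ^ 1 ≤ 3 ^ a := pow_le_pow_right₀ (by norm_num) ha
  linarith

/-- **digits in `[-1, 2]`** -/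
theorem ds_eq {a : ℕ} (ha : 1 ≤ a) {v : ℕ → ℤ} (hv : ∀ l < a, -1 ≤ v l ∧ v l ≤ 2)
    (h : (3 ^ a - 1 : ℤ) ∣ 2 * ∑ l ∈ Finset.range a, v l * 3 ^ l) : ∃ r, ∀ l < a, v l = r := by
  obtain ⟨m, hm⟩ := h
  have hQ := Q_pos ha
  have h1 := le_ds fun l hl => (hv l hl).1
  have h2 := ds_le fun l hl => (hv l hl).2
  rw [hm] at h1 h2
  have m1 : -1 ≤ m := le_of_mul_le_mul_left h1 hQ
  have m2 : m ≤ 2 := le_of_mul_le_mul_left h2 hQ
  have h3 := ds_shift hm
  refine ⟨m, fun l hl => ?_⟩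
  have h4 : v l - m = 0 := by
    rcases eq_or_lt_of_le m1 with h5 | h5
    · exact ds_nonneg (fun l hl => by have := (hv l hl).1; omega) h3 l hl
    rcases eq_or_lt_of_le m2 with h6 | h6
    · have h7 : ∑ l ∈ Finset.range a, (m - v l) * 3 ^ l = 0 := by
        rw [← neg_eq_zero, ← h3, ← Finset.sum_neg_distrib]
        refine Finset.sum_congr rfl fun l _ => by ring
      have := ds_nonneg (fun l hl => by have := (hv l hl).2; omega) h7 l hl
      omega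
    · exact ds_zero a _ (fun l hl => by have := hv l hl; constructor <;> omega) h3 l hl
  omega

/-- **digits in `[-2, 2]`** -/
theorem ds_or {a : ℕ} (ha : 1 ≤ a) {v : ℕ → ℤ} (hv : ∀ l < a, -2 ≤ v l ∧ v l ≤ 2)
    (h : (3 ^ a - 1 : ℤ) ∣ 2 * ∑ l ∈ Finset.range a, v l * 3 ^ l) : (∀ l < a, v l = 0) ∨ ∀ l < a, v l ≠ 0 := by
  have key : ∀ v : ℕ → ℤ, (∀ l < a, -2 ≤ v l ∧ v l ≤ 2) → ∀ m : ℤ, 0 ≤ m → m ≤ 2 →
      2 * ∑ l ∈ Finset.range a, v l * 3 ^ l = (3 ^ a - 1) * m → (∀ l < a, v l = 0) ∨ ∀ l < a, v l ≠ 0 := by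
    intro v hv m h0 h2 hm
    have h3 := ds_shift hm
    have h4 : m = 0 ∨ m = 1 ∨ m = 2 := by omega
    rcases h4 with rfl | rfl | rfl
    · left
      intro l hl
      have := ds_zero a _ (fun l hl => by have := hv l hl; constructor <;> omega) h3 l hl
      omega
    · right
      intro l hl
      have := ds_carry a _ 0 (fun l hl => by have := hv l hl; constructor <;> omega) le_rfl (by norm_num) h3 l hl
      omega
    · right
      intro l hl
      have h7 : ∑ l ∈ Finset.range a, (2 - v l) * 3 ^ l = 0 := by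
        rw [← neg_eq_zero, ← h3, ← Finset.sum_neg_distrib]
        refine Finset.sum_congr rfl fun l _ => by ring
      have := ds_nonneg (fun l hl => by have := (hv l hl).2; omega) h7 l hl
      omega
  obtain ⟨m, hm⟩ := h
  have hQ := Q_pos ha
  have h1 := le_ds fun l hl => (hv l hl).1
  have h2 := ds_le fun l hl => (hv l hl).2
  rw [hm] at h1 h2
  have m1 : -2 ≤ m := le_of_mul_le_mul_left h1 hQ
  have m2 : m ≤ 2 := le_of_mul_le_mul_left h2 hQ
  rcases le_total 0 m with h3 | h3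
  · exact key v hv m h3 m2 hm
  · have h4 := key (fun l => -v l) (fun l hl => by have := hv l hl; constructor <;> omega) (-m) (by omega) (by omega) (by
      have h5 : ∑ l ∈ Finset.range a, -v l * 3 ^ l = -∑ l ∈ Finset.range a, v l * 3 ^ l := by
        rw [← Finset.sum_neg_distrib]
        refine Finset.sum_congr rfl fun l _ => by ring
      rw [h5]
      linear_combination -hm)
    rcases h4 with h4 | h4
    · exact Or.inl fun l hl => by have := h4 l hl; omega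
    · exact Or.inr fun l hl => by have := h4 l hl; omega

/-- the indicator function -/
def dl (i l : ℕ) : ℤ := if l = i then 1 else 0

theorem dl_self (i : ℕ) : dl i i = 1 := if_pos rfl

theorem dl_ne {i l : ℕ} (h : l ≠ i) : dl i l = 0 := if_neg h

theorem dl_cases (i l : ℕ) : dl i l = 0 ∨ (dl i l = 1 ∧ l = i) := by
  unfold dl
  split_ifs with h
  · exact Or.inr ⟨rfl, h⟩
  · exact Or.inl rfl

theorem sum_dl {a i : ℕ} (hi : i < a) : ∑ l ∈ Finset.range a, dl i l * 3 ^ l = 3 ^ i := by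
  rw [Finset.sum_eq_single i]
  · rw [dl_self, one_mul]
  · intro l _ hl
    rw [dl_ne hl, zero_mul]
  · intro h
    exact absurd (Finset.mem_range.2 hi) h

/-- the digits of the weights -/
def vd (i j i' j' i'' j'' x y l : ℕ) : ℤ :=
  dl i l + dl j l - dl i' l - dl j' l + ((x : ℤ) - 1) * dl i'' l + ((y : ℤ) - 1) * dl j'' l

theorem wt_dvd {a i j i' j' i'' j'' x y : ℕ} (hi : i < a) (hj : j < a) (hi' : i' < a) (hj' : j' < a) (hi'' : i'' < a)
    (hj'' : j'' < a) (hx : x ≤ 2) (hy : y ≤ 2)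
    (h : (2 * 3 ^ i + 2 * 3 ^ j + (x * 3 ^ i'' + y * 3 ^ j'')) % (3 ^ a - 1) =
      (2 * 3 ^ i' + 2 * 3 ^ j' + ((2 - x) * 3 ^ i'' + (2 - y) * 3 ^ j'')) % (3 ^ a - 1)) :
    (3 ^ a - 1 : ℤ) ∣ 2 * ∑ l ∈ Finset.range a, vd i j i' j' i'' j'' x y l * 3 ^ l := by
  have h1 : ∑ l ∈ Finset.range a, vd i j i' j' i'' j'' x y l * 3 ^ l =
      3 ^ i + 3 ^ j - 3 ^ i' - 3 ^ j' + ((x : ℤ) - 1) * 3 ^ i'' + ((y : ℤ) - 1) * 3 ^ j'' := by
    rw [← sum_dl hi, ← sum_dl hj, ← sum_dl hi', ← sum_dl hj', ← sum_dl hi'', ← sum_dl hj'', Finset.mul_sum,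
      Finset.mul_sum, ← Finset.sum_add_distrib, ← Finset.sum_sub_distrib, ← Finset.sum_sub_distrib,
      ← Finset.sum_add_distrib, ← Finset.sum_add_distrib]
    refine Finset.sum_congr rfl fun l _ => ?_
    unfold vd
    ring
  have h3 : ((2 * 3 ^ i + 2 * 3 ^ j + (x * 3 ^ i'' + y * 3 ^ j'') : ℕ) : ℤ) ≡
      ((2 * 3 ^ i' + 2 * 3 ^ j' + ((2 - x) * 3 ^ i'' + (2 - y) * 3 ^ j'') : ℕ) : ℤ) [ZMOD ((3 ^ a - 1 : ℕ) : ℤ)] :=
    Int.natCast_modEq_iff.2 h
  have h4 := h3.symm.dvd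
  have h5 : ((3 ^ a - 1 : ℕ) : ℤ) = 3 ^ a - 1 := by
    rw [Nat.cast_sub (Nat.one_le_pow _ _ (by norm_num))]
    push_cast
    ring
  rw [h5] at h4
  rw [h1]
  push_cast [hx, hy] at h4
  refine h4.trans (dvd_of_eq ?_)
  ring

end Cfsg.Agent.R2.P3
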