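import Cfsg.Agent.R2.P3.Dec
import Cfsg.Agent.R2.P3.Num

/-!
# The types of the three submodules of type `22` (R2/P3, helper17), `p = 3`

* `mix` : `T (X, X', X) = 0` for submodules of distinct types;
* `S22.exists_triangle` : the types are `{p, q}`, `{p, r}`, `{q, r}`.
-/

set_option autoImplicit false
set_option linter.unusedSectionVars false

namespace Cfsg.Agent.R2.P3

open Matrix Cfsg.Agent.H943.SL2Rel Cfsg.Agent.H943.SL2Mod Cfsg.Agent.H943.RepAdd Cfsg.Agent.R2.H28.SL2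
open Cfsg.Lie
open Cfsg.Agent.ChevalleyStructure.E6Min.Basic (Zgrp)
open Cfsg.Agent.ChevalleyStructure.E6Min.Inv
open Cfsg.Agent.H952.F4 (sh cr tf)
open Cfsg.Agent.H952.F4.Jord
open Cfsg.Agent.R2.GEO (Pair crB crB_apply tfB tfB_apply perp mem_perp finrank_perp perp_stab perp_perp kr mem_kr
  finrank_kr_le)

universe u v w

/-- equal types -/
def Smt (i j i' j' : ℕ) : Prop := (i = i' ∧ j = j') ∨ (i = j' ∧ j = i')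

/-- a triangle -/
def Tri3 (i₀ j₀ i₁ j₁ i₂ j₂ : ℕ) : Prop := ∃ p q r, p ≠ q ∧ p ≠ r ∧ q ≠ r ∧ Smt i₀ j₀ p q ∧ Smt i₁ j₁ p r ∧ Smt i₂ j₂ q r

theorem dl_comm (i l : ℕ) : dl i l = dl l i := by
  unfold dl
  by_cases h : l = i
  · rw [if_pos h, if_pos h.symm]
  · rw [if_neg h, if_neg (Ne.symm h)]

theorem num_mix {a i j i' j' x y : ℕ} (P : Pr a i j) (P' : Pr a i' j') (hd : ¬ Smt i j i' j') (hx : x ≤ 2) (hy : y ≤ 2) :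
    ¬ (3 ^ a - 1 : ℤ) ∣ 2 * ∑ l ∈ Finset.range a, vd i j i' j' i j x y l * 3 ^ l := by
  intro h
  have ha := P.ha
  have n1 := P.ne
  have n2 := P'.ne
  have hx' : (x : ℤ) ≤ 2 := by exact_mod_cast hx
  have hy' : (y : ℤ) ≤ 2 := by exact_mod_cast hy
  have hx0 : (0 : ℤ) ≤ x := Int.natCast_nonneg x
  have hy0 : (0 : ℤ) ≤ y := Int.natCast_nonneg y
  obtain ⟨r, hr⟩ := ds_eq (by omega) (fun l _ => by
    unfold vd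
    rcases dl_cases i l with h1 | ⟨h1, h1'⟩ <;> rcases dl_cases j l with h2 | ⟨h2, h2'⟩ <;>
      rcases dl_cases i' l with h3 | ⟨h3, h3'⟩ <;> rcases dl_cases j' l with h4 | ⟨h4, h4'⟩ <;>
      rw [h1, h2, h3, h4] <;> constructor <;> omega) h
  have e1 := hr i P.hi
  have e2 := hr j P.hj
  have e3 := hr i' P'.hi
  have e4 := hr j' P'.hj
  unfold vd at e1 e2 e3 e4
  rw [dl_self, dl_ne n1] at e1
  rw [dl_self, dl_ne n1.symm] at e2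
  rw [dl_self, dl_ne n2, dl_comm i, dl_comm j] at e3
  rw [dl_self, dl_ne n2.symm, dl_comm i, dl_comm j] at e4
  have hd' : ¬ ((i = i' ∧ j = j') ∨ (i = j' ∧ j = i')) := hd
  rcases dl_cases i' i with h1 | ⟨h1, h1'⟩ <;> rcases dl_cases j' i with h2 | ⟨h2, h2'⟩ <;>
      rcases dl_cases i' j with h3 | ⟨h3, h3'⟩ <;> rcases dl_cases j' j with h4 | ⟨h4, h4'⟩ <;>
      rw [h1, h2] at e1 <;> rw [h3, h4] at e2 <;> rw [h1, h3] at e3 <;> rw [h2, h4] at e4 <;> omega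

section Main

variable {k : Type u} [Field k] [DecidableEq k] [IsAlgClosed k] {F : Type w} [Field F] [Fintype F] [DecidableEq F]
  {ι : F →+* k} [CharP k 3] [CharP F 3] {a : ℕ}
variable {ψ : SpecialLinearGroup (Fin 2) F →* ↥(Zgrp k)} {ρ ρ' : Representation k ↥(Zgrp k) (I27 → k)}

theorem X22.symm {r : Representation k (SpecialLinearGroup (Fin 2) F) (I27 → k)}
    {X : Submodule k (I27 → k)} {i j : ℕ} {Φ : (F × F → k) →ₗ[k] (I27 → k)} (T : X22 ι a r X i j Φ) :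
    X22 ι a r X j i Φ := by
  have e : 2 * 3 ^ j + 2 * 3 ^ i = 2 * 3 ^ i + 2 * 3 ^ j := add_comm _ _
  refine ⟨⟨T.P.ha, T.P.ne.symm, T.P.hj, T.P.hi⟩, T.st, ?_, ?_, ?_, ?_, T.nine⟩ <;> rw [e]
  · exact T.isv
  · exact T.hm
  · exact T.mem
  · exact T.inj

/-- distinct submodules have distinct types -/
theorem S22.dist (S : S22 ι a ψ ρ ρ') {X X' : Submodule k (I27 → k)} {i j i' j' : ℕ}
    {Φ Φ' : (F × F → k) →ₗ[k] (I27 → k)} (T : X22 ι a (Rr ρ ψ) X i j Φ) (T' : X22 ι a (Rr ρ ψ) X' i' j' Φ')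
    (h : X ⊓ X' = ⊥) : ¬ Smt i j i' j' := by
  rintro (⟨rfl, rfl⟩ | ⟨rfl, rfl⟩)
  · exact S.mult_one T T' h
  · exact S.mult_one T T'.symm h

/-- **mixed terms** -/
theorem mix (f0 : Fra 3 a ψ ρ ρ') {X X' : Submodule k (I27 → k)} {i j i' j' : ℕ}
    {Φ Φ' : (F × F → k) →ₗ[k] (I27 → k)} (T : X22 ι a (Rr ρ ψ) X i j Φ) (T' : X22 ι a (Rr ρ ψ) X' i' j' Φ')
    (hd : ¬ Smt i j i' j') {x y z : I27 → k} (hx : x ∈ X) (hy : y ∈ X') (hz : z ∈ X) : tf (cr x y) z = 0 := by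
  obtain ⟨f, hf, rfl⟩ := (T.mem x).1 hx
  obtain ⟨f', hf', rfl⟩ := (T'.mem y).1 hy
  obtain ⟨f'', hf'', rfl⟩ := (T.mem z).1 hz
  refine gen22 f0 T.P T'.P T.P T.hm T'.hm T.hm (fun x hx y hy h => ?_) f hf f' hf' f'' hf''
  exact absurd (wt_dvd T.P.hi T.P.hj T'.P.hi T'.P.hj T.P.hi T.P.hj hx hy h) (num_mix T.P T'.P hd hx hy)

section Three

variable {X₀ X₁ X₂ : Submodule k (I27 → k)} {i₀ j₀ i₁ j₁ i₂ j₂ : ℕ} {Φ₀ Φ₁ Φ₂ : (F × F → k) →ₗ[k] (I27 → k)}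

/-- the trilinear form vanishes -/
def Van (X₀ X₁ X₂ : Submodule k (I27 → k)) : Prop := ∀ x ∈ X₀, ∀ y ∈ X₁, ∀ z ∈ X₂, tf (cr x y) z = 0

omit [CharP k 3] in
theorem Van.rot (h : Van X₁ X₂ X₀) : Van X₀ X₁ X₂ := by
  intro x hx y hy z hz
  rw [tri_s12, tri_s23]
  exact h y hy z hz x hx

omit [CharP k 3] in
theorem Van.sw (h : Van X₀ X₂ X₁) : Van X₀ X₁ X₂ := by
  intro x hx y hy z hz
  rw [tri_s23]
  exact h x hx z hz y hy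

theorem van_of (f0 : Fra 3 a ψ ρ ρ') (T₀ : X22 ι a (Rr ρ ψ) X₀ i₀ j₀ Φ₀) (T₁ : X22 ι a (Rr ρ ψ) X₁ i₁ j₁ Φ₁)
    (T₂ : X22 ι a (Rr ρ ψ) X₂ i₂ j₂ Φ₂) (h : ∀ x ≤ 2, ∀ y ≤ 2,
      ¬ (3 ^ a - 1 : ℤ) ∣ 2 * ∑ l ∈ Finset.range a, vd i₀ j₀ i₁ j₁ i₂ j₂ x y l * 3 ^ l) : Van X₀ X₁ X₂ := by
  intro x hx y hy z hz
  obtain ⟨f, hf, rfl⟩ := (T₀.mem x).1 hx
  obtain ⟨f', hf', rfl⟩ := (T₁.mem y).1 hy
  obtain ⟨f'', hf'', rfl⟩ := (T₂.mem z).1 hz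
  refine gen22 f0 T₀.P T₁.P T₂.P T₀.hm T₁.hm T₂.hm (fun x hx y hy h' => ?_) f hf f' hf' f'' hf''
  exact absurd (wt_dvd T₀.P.hi T₀.P.hj T₁.P.hi T₁.P.hj T₂.P.hi T₂.P.hj hx hy h') (h x hx y hy)

/-- the star -/
theorem van_star (f0 : Fra 3 a ψ ρ ρ') {p : ℕ} (T₀ : X22 ι a (Rr ρ ψ) X₀ p j₀ Φ₀) (T₁ : X22 ι a (Rr ρ ψ) X₁ p j₁ Φ₁)
    (T₂ : X22 ι a (Rr ρ ψ) X₂ p j₂ Φ₂) (h01 : j₀ ≠ j₁) (h02 : j₀ ≠ j₂) (h12 : j₁ ≠ j₂) : Van X₀ X₁ X₂ := by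
  refine van_of f0 T₀ T₁ T₂ fun x hx y hy h => ?_
  have ha := T₀.P.ha
  have n0 := T₀.P.ne
  have n1 := T₁.P.ne
  have n2 := T₂.P.ne
  have hx' : (x : ℤ) ≤ 2 := by exact_mod_cast hx
  have hy' : (y : ℤ) ≤ 2 := by exact_mod_cast hy
  have hx0 : (0 : ℤ) ≤ x := Int.natCast_nonneg x
  have hy0 : (0 : ℤ) ≤ y := Int.natCast_nonneg y
  obtain ⟨r, hr⟩ := ds_eq (by omega) (fun l _ => by
    unfold vd
    rcases dl_cases p l with h1 | ⟨h1, h1'⟩ <;> rcases dl_cases j₀ l with h2 | ⟨h2, h2'⟩ <;>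
      rcases dl_cases j₁ l with h3 | ⟨h3, h3'⟩ <;> rcases dl_cases j₂ l with h4 | ⟨h4, h4'⟩ <;>
      rw [h1, h2, h3, h4] <;> constructor <;> omega) h
  have e0 := hr j₀ T₀.P.hj
  have e1 := hr j₁ T₁.P.hj
  unfold vd at e0 e1
  rw [dl_self, dl_ne n0.symm, dl_ne h01, dl_ne h02] at e0
  rw [dl_self, dl_ne n1.symm, dl_ne h01.symm, dl_ne h12] at e1
  omega

/-- two types which intersect -/
theorem van_int (f0 : Fra 3 a ψ ρ ρ') {p : ℕ} (T₀ : X22 ι a (Rr ρ ψ) X₀ p j₀ Φ₀) (T₁ : X22 ι a (Rr ρ ψ) X₁ p j₁ Φ₁)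
    (T₂ : X22 ι a (Rr ρ ψ) X₂ i₂ j₂ Φ₂) (h01 : j₀ ≠ j₁) (hp1 : p ≠ i₂) (hp2 : p ≠ j₂) (h : ¬ Smt i₂ j₂ j₀ j₁) :
    Van X₀ X₁ X₂ := by
  refine van_of f0 T₀ T₁ T₂ fun x hx y hy h' => ?_
  have ha := T₀.P.ha
  have n0 := T₀.P.ne
  have n1 := T₁.P.ne
  have n2 := T₂.P.ne
  have hx' : (x : ℤ) ≤ 2 := by exact_mod_cast hx
  have hy' : (y : ℤ) ≤ 2 := by exact_mod_cast hy
  have hx0 : (0 : ℤ) ≤ x := Int.natCast_nonneg x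
  have hy0 : (0 : ℤ) ≤ y := Int.natCast_nonneg y
  have h3 := ds_or (by omega) (fun l _ => by
    unfold vd
    rcases dl_cases p l with h1 | ⟨h1, h1'⟩ <;> rcases dl_cases j₀ l with h2 | ⟨h2, h2'⟩ <;>
      rcases dl_cases j₁ l with h3 | ⟨h3, h3'⟩ <;> rcases dl_cases j₂ l with h4 | ⟨h4, h4'⟩ <;>
      rcases dl_cases i₂ l with h5 | ⟨h5, h5'⟩ <;>
      rw [h1, h2, h3, h4, h5] <;> constructor <;> omega) h'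
  have h'' : ¬ ((i₂ = j₀ ∧ j₂ = j₁) ∨ (i₂ = j₁ ∧ j₂ = j₀)) := h
  have ep : vd p j₀ p j₁ i₂ j₂ x y p = 0 := by
    unfold vd
    rw [dl_self, dl_ne n0, dl_ne n1, dl_ne hp1, dl_ne hp2]
    ring
  rcases h3 with h3 | h3
  · have e0 := h3 j₀ T₀.P.hj
    have e1 := h3 j₁ T₁.P.hj
    unfold vd at e0 e1
    rw [dl_self, dl_ne n0.symm, dl_ne h01] at e0
    rw [dl_self, dl_ne n1.symm, dl_ne h01.symm] at e1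
    rcases dl_cases i₂ j₀ with h1 | ⟨h1, h1'⟩ <;> rcases dl_cases j₂ j₀ with h2 | ⟨h2, h2'⟩ <;>
      rcases dl_cases i₂ j₁ with h3 | ⟨h3, h3'⟩ <;> rcases dl_cases j₂ j₁ with h4 | ⟨h4, h4'⟩ <;>
      rw [h1, h2] at e0 <;> rw [h3, h4] at e1 <;> omega
  · exact h3 p T₀.P.hi ep

/-- a common digit -/
theorem van_com (f0 : Fra 3 a ψ ρ ρ') {p : ℕ} (T₀ : X22 ι a (Rr ρ ψ) X₀ p j₀ Φ₀) (T₁ : X22 ι a (Rr ρ ψ) X₁ p j₁ Φ₁)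
    (T₂ : X22 ι a (Rr ρ ψ) X₂ i₂ j₂ Φ₂) (h01 : ¬ Smt p j₀ p j₁) (h02 : ¬ Smt p j₀ i₂ j₂) (h12 : ¬ Smt p j₁ i₂ j₂) :
    Van X₀ X₁ X₂ ∨ Tri3 p j₀ p j₁ i₂ j₂ := by
  have n0 := T₀.P.ne
  have n1 := T₁.P.ne
  have g01 : j₀ ≠ j₁ := fun h => h01 (Or.inl ⟨rfl, h⟩)
  by_cases hp1 : p = i₂
  · left
    subst hp1
    exact van_star f0 T₀ T₁ T₂ g01 (fun h => h02 (Or.inl ⟨rfl, h⟩)) (fun h => h12 (Or.inl ⟨rfl, h⟩))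
  by_cases hp2 : p = j₂
  · left
    subst hp2
    exact van_star f0 T₀ T₁ T₂.symm g01 (fun h => h02 (Or.inr ⟨rfl, h⟩)) (fun h => h12 (Or.inr ⟨rfl, h⟩))
  by_cases h : Smt i₂ j₂ j₀ j₁
  · right
    exact ⟨p, j₀, j₁, n0, n1, g01, Or.inl ⟨rfl, rfl⟩, Or.inl ⟨rfl, rfl⟩, h⟩
  · left
    exact van_int f0 T₀ T₁ T₂ g01 hp1 hp2 h

theorem Smt.sw {i j i' j' : ℕ} (h : Smt i j i' j') : Smt j i i' j' := by
  rcases h with ⟨h1, h2⟩ | ⟨h1, h2⟩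
  · exact Or.inr ⟨h2, h1⟩
  · exact Or.inl ⟨h2, h1⟩

theorem Smt.sw' {i j i' j' : ℕ} (h : Smt i j i' j') : Smt i j j' i' := by
  rcases h with ⟨h1, h2⟩ | ⟨h1, h2⟩
  · exact Or.inr ⟨h1, h2⟩
  · exact Or.inl ⟨h1, h2⟩

theorem Smt.symm {i j i' j' : ℕ} (h : Smt i j i' j') : Smt i' j' i j := by
  rcases h with ⟨h1, h2⟩ | ⟨h1, h2⟩
  · exact Or.inl ⟨h1.symm, h2.symm⟩
  · exact Or.inr ⟨h2.symm, h1.symm⟩

theorem Tri3.sw0 (h : Tri3 i₀ j₀ i₁ j₁ i₂ j₂) : Tri3 j₀ i₀ i₁ j₁ i₂ j₂ := by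
  obtain ⟨p, q, r, h1, h2, h3, h4, h5, h6⟩ := h
  exact ⟨p, q, r, h1, h2, h3, h4.sw, h5, h6⟩

theorem Tri3.sw1 (h : Tri3 i₀ j₀ i₁ j₁ i₂ j₂) : Tri3 i₀ j₀ j₁ i₁ i₂ j₂ := by
  obtain ⟨p, q, r, h1, h2, h3, h4, h5, h6⟩ := h
  exact ⟨p, q, r, h1, h2, h3, h4, h5.sw, h6⟩

theorem Tri3.rot (h : Tri3 i₁ j₁ i₂ j₂ i₀ j₀) : Tri3 i₀ j₀ i₁ j₁ i₂ j₂ := by
  obtain ⟨p, q, r, h1, h2, h3, h4, h5, h6⟩ := h
  exact ⟨q, r, p, h3, h1.symm, h2.symm, h6, h4.sw', h5.sw'⟩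

theorem Tri3.sw (h : Tri3 i₀ j₀ i₂ j₂ i₁ j₁) : Tri3 i₀ j₀ i₁ j₁ i₂ j₂ := by
  obtain ⟨p, q, r, h1, h2, h3, h4, h5, h6⟩ := h
  exact ⟨q, p, r, h1.symm, h3, h2, h4.sw', h6, h5⟩

/-- two types which intersect -/
theorem van_com' (f0 : Fra 3 a ψ ρ ρ') (T₀ : X22 ι a (Rr ρ ψ) X₀ i₀ j₀ Φ₀) (T₁ : X22 ι a (Rr ρ ψ) X₁ i₁ j₁ Φ₁)
    (T₂ : X22 ι a (Rr ρ ψ) X₂ i₂ j₂ Φ₂) (h01 : ¬ Smt i₀ j₀ i₁ j₁) (h02 : ¬ Smt i₀ j₀ i₂ j₂) (h12 : ¬ Smt i₁ j₁ i₂ j₂)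
    (h : i₀ = i₁ ∨ i₀ = j₁ ∨ j₀ = i₁ ∨ j₀ = j₁) : Van X₀ X₁ X₂ ∨ Tri3 i₀ j₀ i₁ j₁ i₂ j₂ := by
  rcases h with rfl | rfl | rfl | rfl
  · exact van_com f0 T₀ T₁ T₂ h01 h02 h12
  · exact (van_com f0 T₀ T₁.symm T₂ (fun h => h01 h.sw') h02 (fun h => h12 h.sw)).imp id Tri3.sw1
  · exact (van_com f0 T₀.symm T₁ T₂ (fun h => h01 h.sw) (fun h => h02 h.sw) h12).imp id Tri3.sw0
  · exact (van_com f0 T₀.symm T₁.symm T₂ (fun h => h01 h.sw.sw') (fun h => h02 h.sw) (fun h => h12 h.sw)).imp id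
      fun h => h.sw0.sw1

/-- **the trilinear form on three submodules** -/
theorem van_or (f0 : Fra 3 a ψ ρ ρ') (T₀ : X22 ι a (Rr ρ ψ) X₀ i₀ j₀ Φ₀) (T₁ : X22 ι a (Rr ρ ψ) X₁ i₁ j₁ Φ₁)
    (T₂ : X22 ι a (Rr ρ ψ) X₂ i₂ j₂ Φ₂) (h01 : ¬ Smt i₀ j₀ i₁ j₁) (h02 : ¬ Smt i₀ j₀ i₂ j₂) (h12 : ¬ Smt i₁ j₁ i₂ j₂) :
    Van X₀ X₁ X₂ ∨ Tri3 i₀ j₀ i₁ j₁ i₂ j₂ := by
  by_cases c01 : i₀ = i₁ ∨ i₀ = j₁ ∨ j₀ = i₁ ∨ j₀ = j₁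
  · exact van_com' f0 T₀ T₁ T₂ h01 h02 h12 c01
  by_cases c12 : i₁ = i₂ ∨ i₁ = j₂ ∨ j₁ = i₂ ∨ j₁ = j₂
  · exact (van_com' f0 T₁ T₂ T₀ h12 (fun h => h01 h.symm) (fun h => h02 h.symm) c12).imp Van.rot Tri3.rot
  by_cases c02 : i₀ = i₂ ∨ i₀ = j₂ ∨ j₀ = i₂ ∨ j₀ = j₂
  · exact (van_com' f0 T₀ T₂ T₁ h02 h01 (fun h => h12 h.symm) c02).imp Van.sw Tri3.sw
  left
  refine van_of f0 T₀ T₁ T₂ fun x hx y hy h => ?_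
  have ha := T₀.P.ha
  have n0 := T₀.P.ne
  have n1 := T₁.P.ne
  have n2 := T₂.P.ne
  have hx' : (x : ℤ) ≤ 2 := by exact_mod_cast hx
  have hy' : (y : ℤ) ≤ 2 := by exact_mod_cast hy
  have hx0 : (0 : ℤ) ≤ x := Int.natCast_nonneg x
  have hy0 : (0 : ℤ) ≤ y := Int.natCast_nonneg y
  push Not at c01 c12 c02
  obtain ⟨r, hr⟩ := ds_eq (by omega) (fun l _ => by
    unfold vd
    rcases dl_cases i₀ l with h1 | ⟨h1, h1'⟩ <;> rcases dl_cases j₀ l with h2 | ⟨h2, h2'⟩ <;>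
      rcases dl_cases i₁ l with h3 | ⟨h3, h3'⟩ <;> rcases dl_cases j₁ l with h4 | ⟨h4, h4'⟩ <;>
      rcases dl_cases i₂ l with h5 | ⟨h5, h5'⟩ <;> rcases dl_cases j₂ l with h6 | ⟨h6, h6'⟩ <;>
      rw [h1, h2, h3, h4, h5, h6] <;> constructor <;> omega) h
  have e0 := hr i₀ T₀.P.hi
  have e1 := hr i₁ T₁.P.hi
  unfold vd at e0 e1
  rw [dl_self, dl_ne n0, dl_ne c01.1, dl_ne c01.2.1, dl_ne c02.1, dl_ne c02.2.1] at e0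
  rw [dl_self, dl_ne n1, dl_ne (Ne.symm c01.1), dl_ne (Ne.symm c01.2.2.1), dl_ne c12.1, dl_ne c12.2.1] at e1
  omega

end Three

/-- **the types form a triangle** -/
theorem S22.exists_triangle (S : S22 ι a ψ ρ ρ') : ∃ (X₀ X₁ X₂ : Submodule k (I27 → k)) (p q r : ℕ)
    (Φ₀ Φ₁ Φ₂ : (F × F → k) →ₗ[k] (I27 → k)), p ≠ q ∧ p ≠ r ∧ q ≠ r ∧ X22 ι a (Rr ρ ψ) X₀ p q Φ₀ ∧
      X22 ι a (Rr ρ ψ) X₁ p r Φ₁ ∧ X22 ι a (Rr ρ ψ) X₂ q r Φ₂ := by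
  obtain ⟨X₀, X₁, X₂, i₀, j₀, i₁, j₁, i₂, j₂, Φ₀, Φ₁, Φ₂, T₀, T₁, T₂, b01, b02, b12, htop⟩ := S.exists_three
  have h01 := S.dist T₀ T₁ b01
  have h02 := S.dist T₀ T₂ b02
  have h12 := S.dist T₁ T₂ b12
  have f0 := S.fra
  rcases van_or f0 T₀ T₁ T₂ h01 h02 h12 with hv | ⟨p, q, r, n1, n2, n3, s0, s1, s2⟩
  · exfalso
    obtain ⟨m, hm⟩ : ∃ m, m = Φ₀ (bf ι 3 i₀ j₀ 2 2 2 2) := ⟨_, rfl⟩
    have hm0 : m ≠ 0 := by rw [hm]; exact T₀.top f0.card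
    have hmX : m ∈ X₀ := by rw [hm]; exact (T₀.mem _).2 ⟨_, T₀.P.mm f0.card le_rfl le_rfl, rfl⟩
    have hz : ∀ x : I27 → k, (∀ z ∈ X₀, tf (cr m x) z = 0) → (∀ z ∈ X₁, tf (cr m x) z = 0) →
        (∀ z ∈ X₂, tf (cr m x) z = 0) → x ∈ kr m := by
      intro x h0 h1 h2
      rw [mem_kr]
      refine tf_nondeg fun z => ?_
      have hz : z ∈ X₀ ⊔ (X₁ ⊔ X₂) := by rw [htop]; trivial
      obtain ⟨z0, hz0, z', hz', rfl⟩ := Submodule.mem_sup.1 hz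
      obtain ⟨z1, hz1, z2, hz2, rfl⟩ := Submodule.mem_sup.1 hz'
      rw [tf_add_right, tf_add_right, h0 z0 hz0, h1 z1 hz1, h2 z2 hz2, add_zero, add_zero]
    have hle : X₁ ⊔ X₂ ≤ kr m := by
      refine sup_le (fun x hx => hz x ?_ ?_ ?_) (fun x hx => hz x ?_ ?_ ?_)
      · exact fun z hz => mix f0 T₀ T₁ h01 hmX hx hz
      · intro z hz
        rw [tri_s12]
        exact mix f0 T₁ T₀ (fun h => h01 h.symm) hx hmX hz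
      · exact fun z hz => hv m hmX x hx z hz
      · exact fun z hz => mix f0 T₀ T₂ h02 hmX hx hz
      · intro z hz
        rw [tri_s23]
        exact hv m hmX z hz x hx
      · intro z hz
        rw [tri_s12]
        exact mix f0 T₂ T₀ (fun h => h02 h.symm) hx hmX hz
    have h1 := Submodule.finrank_mono hle
    have h2 := finrank_kr_le hm0
    have h3 := Submodule.finrank_sup_add_finrank_inf_eq X₁ X₂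
    rw [b12, finrank_bot] at h3
    have := T₁.nine
    have := T₂.nine
    omega
  · refine ⟨X₀, X₁, X₂, p, q, r, Φ₀, Φ₁, Φ₂, n1, n2, n3, ?_, ?_, ?_⟩
    · rcases s0 with ⟨rfl, rfl⟩ | ⟨rfl, rfl⟩
      · exact T₀
      · exact T₀.symm
    · rcases s1 with ⟨rfl, rfl⟩ | ⟨rfl, rfl⟩
      · exact T₁
      · exact T₁.symm
    · rcases s2 with ⟨rfl, rfl⟩ | ⟨rfl, rfl⟩
      · exact T₂
      · exact T₂.symm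

end Main

end Cfsg.Agent.R2.P3
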