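import Cfsg.Agent.R2.P3.Base

/-!
# The square of a submodule of type `11` (R2/P3, helper17), `p = 3`

`exists_sq` : for `Φ : V_{3^i + 3^j} → V` there is `Ψ : V_{2 3^i + 2 3^j} → V'` with `cr (Φ f) (Φ f') = Ψ (f f')`, and the
cubic form vanishes on the image of `Φ`.
-/

set_option autoImplicit false
set_option linter.unusedSectionVars false

namespace Cfsg.Agent.R2.P3

open Matrix Cfsg.Agent.H943.SL2Rel Cfsg.Agent.H943.SL2Mod Cfsg.Agent.H943.RepAdd Cfsg.Agent.R2.H28.SL2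
open Cfsg.Lie
open Cfsg.Agent.ChevalleyStructure.E6Min.Basic (Zgrp)
open Cfsg.Agent.ChevalleyStructure.E6Min.Inv
open Cfsg.Agent.H952.F4 (sh cr tf)
open Cfsg.Agent.H952.F4.Jord
open Cfsg.Agent.R2.GEO (Pair crB crB_apply tfB tfB_apply)

universe u v w

theorem dgt3 {i j l c d : ℕ} (hij : i ≠ j) (hc : c < 3) (hd : d < 3) :
    (c * 3 ^ i + d * 3 ^ j) / 3 ^ l % 3 = if l = i then c else if l = j then d else 0 :=
  dg_pair (by norm_num) hij hc hd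

theorem rs_inj {i j r s r' s' : ℕ} (hij : i ≠ j) (hr : r < 3) (hs : s < 3) (hr' : r' < 3) (hs' : s' < 3)
    (h : r * 3 ^ i + s * 3 ^ j = r' * 3 ^ i + s' * 3 ^ j) : r = r' ∧ s = s' := by
  have h1 := dgt3 (l := i) hij hr hs
  have h2 := dgt3 (l := j) hij hr hs
  rw [h, dgt3 hij hr' hs', if_pos rfl, if_pos rfl] at h1
  rw [h, dgt3 hij hr' hs', if_neg hij.symm, if_pos rfl, if_neg hij.symm, if_pos rfl] at h2
  exact ⟨h1.symm, h2.symm⟩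

section Coeff

variable {k : Type u} [Field k] {F : Type w} [Field F] [Fintype F] [DecidableEq F] (ι : F →+* k)
variable [CharP k 3] [CharP F 3]
variable {V : Type*} [AddCommGroup V] [Module k V]

/-- coefficients of `t^{r 3^i + s 3^j}`, `r, s ≤ 2` -/
theorem coeff2 {a i j : ℕ} (hF : Fintype.card F = 3 ^ a) (ha : 3 ≤ a) (hij : i ≠ j) (hi : i < a) (hj : j < a)
    {C : ℕ → ℕ → V}
    (h : ∀ t : F, ∑ r ∈ Finset.range 3, ∑ s ∈ Finset.range 3, ((ι t ^ 3 ^ i) ^ r * (ι t ^ 3 ^ j) ^ s) • C r s = 0) :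
    ∀ r < 3, ∀ s < 3, C r s = 0 := by
  intro r hr s hs
  have hlt : ∀ {r s : ℕ}, r < 3 → s < 3 → r * 3 ^ i + s * 3 ^ j < Fintype.card F - 1 := by
    intro r s hr hs
    have h1 := pair_lt_Q ha hij hi hj
    have h2 : r * 3 ^ i ≤ 2 * 3 ^ i := Nat.mul_le_mul_right _ (by omega)
    have h3 : s * 3 ^ j ≤ 2 * 3 ^ j := Nat.mul_le_mul_right _ (by omega)
    rw [hF]
    omega
  refine coeff_zero ι 3 (α := ℕ × ℕ) (J := Finset.range 3 ×ˢ Finset.range 3) (e := fun x => x.1 * 3 ^ i + x.2 * 3 ^ j)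
    (z := fun x => C x.1 x.2) (fun t => ?_) (j₀ := (r, s)) ?_ ?_
  · rw [Finset.sum_product, ← h t]
    refine Finset.sum_congr rfl fun r _ => Finset.sum_congr rfl fun s _ => ?_
    show ι t ^ (r * 3 ^ i + s * 3 ^ j) • C r s = _
    rw [pow_add, mul_comm r, mul_comm s, pow_mul, pow_mul]
  · rw [Finset.mem_product, Finset.mem_range, Finset.mem_range]
    exact ⟨hr, hs⟩
  · rintro ⟨r', s'⟩ h1 h2 h3
    rw [Finset.mem_product, Finset.mem_range, Finset.mem_range] at h1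
    have h4 : r' * 3 ^ i + s' * 3 ^ j = r * 3 ^ i + s * 3 ^ j := by
      have h5 : (r' * 3 ^ i + s' * 3 ^ j) % (Fintype.card F - 1) = (r * 3 ^ i + s * 3 ^ j) % (Fintype.card F - 1) := h3
      rwa [Nat.mod_eq_of_lt (hlt h1.1 h1.2), Nat.mod_eq_of_lt (hlt hr hs)] at h5
    obtain ⟨rfl, rfl⟩ := rs_inj hij h1.1 h1.2 hr hs h4
    exact h2 rfl

end Coeff

section Mono

variable {k : Type u} [Field k] {F : Type w} [Field F] [Fintype F] [DecidableEq F] (ι : F →+* k)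
variable [CharP k 3] [CharP F 3]

/-- the four monomials -/
theorem e_mem {a i j : ℕ} (hF : Fintype.card F = 3 ^ a) (ha : 3 ≤ a) (hij : i ≠ j) (hi : i < a) (hj : j < a) :
    xi ι 3 i * xi ι 3 j ∈ Vb ι (1 * 3 ^ i + 1 * 3 ^ j) ∧ xi ι 3 i * et ι 3 j ∈ Vb ι (1 * 3 ^ i + 1 * 3 ^ j) ∧
    et ι 3 i * xi ι 3 j ∈ Vb ι (1 * 3 ^ i + 1 * 3 ^ j) ∧ et ι 3 i * et ι 3 j ∈ Vb ι (1 * 3 ^ i + 1 * 3 ^ j) := by
  have h1 := pair_lt_Q ha hij hi hj
  have hb : 1 * 3 ^ i + 1 * 3 ^ j ≤ Fintype.card F - 1 := by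
    rw [hF]
    omega
  have key : ∀ x ≤ 1, ∀ y ≤ 1, bf ι 3 i j 1 1 x y ∈ Vb ι (1 * 3 ^ i + 1 * 3 ^ j) := fun x hx y hy =>
    bf_mem ι 3 hij (by norm_num) (by norm_num) hb hx hy
  have k11 := key 1 le_rfl 1 le_rfl
  have k10 := key 1 le_rfl 0 (by norm_num)
  have k01 := key 0 (by norm_num) 1 le_rfl
  have k00 := key 0 (by norm_num) 0 (by norm_num)
  unfold bf at k11 k10 k01 k00
  simp only [pow_one, Nat.sub_self, pow_zero, mul_one, Nat.sub_zero, one_mul] at k11 k10 k01 k00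
  simp only [one_mul]
  exact ⟨k11, k10, k01, k00⟩

theorem wt11 (i j : ℕ) : Wt ι (fRep k F) (xi ι 3 i * xi ι 3 j) (1 * 3 ^ i + 1 * 3 ^ j) 0 := by
  have w1 := (xi_wt ι 3 i 1).mul ι (xi_wt ι 3 j 1)
  rwa [pow_one, pow_one] at w1

theorem wt00 (i j : ℕ) : Wt ι (fRep k F) (et ι 3 i * et ι 3 j) 0 (1 * 3 ^ i + 1 * 3 ^ j) := by
  have w1 := (et_wt ι 3 i 1).mul ι (et_wt ι 3 j 1)
  rwa [pow_one, pow_one] at w1

omit [CharP k 3] [CharP F 3] in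
theorem top_eq (i j : ℕ) : mon ι (1 * 3 ^ i + 1 * 3 ^ j) (1 * 3 ^ i + 1 * 3 ^ j) = xi ι 3 i * xi ι 3 j := by
  rw [← bf_eq_mon ι 3 i j le_rfl le_rfl]
  unfold bf
  simp only [pow_one, Nat.sub_self, pow_zero, mul_one]

omit [CharP k 3] [CharP F 3] in
theorem top_eq2 (i j : ℕ) : mon ι (2 * 3 ^ i + 2 * 3 ^ j) (2 * 3 ^ i + 2 * 3 ^ j) = xi ι 3 i * xi ι 3 j * (xi ι 3 i * xi ι 3 j) := by
  rw [← bf_eq_mon ι 3 i j le_rfl le_rfl]
  unfold bf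
  simp only [Nat.sub_self, pow_zero, mul_one]
  ring

/-- products of elements of `V_{3^i + 3^j}` -/
theorem mul_mem {a i j : ℕ} (hF : Fintype.card F = 3 ^ a) (ha : 3 ≤ a) (hij : i ≠ j) (hi : i < a) (hj : j < a)
    {f f' : F × F → k} (hf : f ∈ Vb ι (1 * 3 ^ i + 1 * 3 ^ j)) (hf' : f' ∈ Vb ι (1 * 3 ^ i + 1 * 3 ^ j)) :
    f * f' ∈ Vb ι (2 * 3 ^ i + 2 * 3 ^ j) := by
  have h1 := pair_lt_Q ha hij hi hj
  have hb : 2 * 3 ^ i + 2 * 3 ^ j ≤ Fintype.card F - 1 := by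
    rw [hF]
    omega
  refine Vb_le_bf ι 3 hij (by norm_num : 1 < 3) (by norm_num : 1 < 3) (P := fun f => f * f' ∈ _) ?_ ?_ ?_ ?_ hf
  · rw [zero_mul]
    exact zero_mem _
  · intro f g h1 h2
    rw [add_mul]
    exact add_mem h1 h2
  · intro c f h
    rw [smul_mul_assoc]
    exact Submodule.smul_mem _ _ h
  · intro x hx y hy
    refine Vb_le_bf ι 3 hij (by norm_num : 1 < 3) (by norm_num : 1 < 3)
      (P := fun f' => bf ι 3 i j 1 1 x y * f' ∈ _) ?_ ?_ ?_ ?_ hf'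
    · rw [mul_zero]
      exact zero_mem _
    · intro f g h1 h2
      rw [mul_add]
      exact add_mem h1 h2
    · intro c f h
      rw [mul_smul_comm]
      exact Submodule.smul_mem _ _ h
    · intro x' hx' y' hy'
      have h2 : bf ι 3 i j 1 1 x y * bf ι 3 i j 1 1 x' y' = bf ι 3 i j 2 2 (x + x') (y + y') := by
        unfold bf
        have e1 : 2 - (x + x') = (1 - x) + (1 - x') := by omega
        have e2 : 2 - (y + y') = (1 - y) + (1 - y') := by omega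
        rw [e1, e2]
        simp only [pow_add]
        ring
      rw [h2]
      exact bf_mem ι 3 hij (by norm_num) (by norm_num) hb (by omega) (by omega)

end Mono

section Main

variable {k : Type u} [Field k] [DecidableEq k] [IsAlgClosed k] {F : Type w} [Field F] [Fintype F] [DecidableEq F]
  {ι : F →+* k} [CharP k 3] [CharP F 3] {a : ℕ}
variable {ψ : SpecialLinearGroup (Fin 2) F →* ↥(Zgrp k)} {ρ ρ' : Representation k ↥(Zgrp k) (I27 → k)}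

/-- equivariance of `cr` -/
theorem cr_eqv (hρ : Pair ρ ρ') {b b' : ℕ} {Φ Φ' : (F × F → k) →ₗ[k] (I27 → k)}
    (hΦ : Hm ι (Rr ρ ψ) b Φ) (hΦ' : Hm ι (Rr ρ ψ) b' Φ') (g : SpecialLinearGroup (Fin 2) F) {f f' : F × F → k}
    (hf : f ∈ Vb ι b) (hf' : f' ∈ Vb ι b') :
    Rr ρ' ψ g (cr (Φ f) (Φ' f')) = cr (Φ (fRep k F g f)) (Φ' (fRep k F g f')) := by
  rw [hΦ g f hf, hΦ' g f' hf']
  exact (pair_cr hρ (ψ g) _ _).symm

/-- **the square** -/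
theorem exists_sq (f0 : Fra 3 a ψ ρ ρ') (ha : 3 ≤ a) {i j : ℕ} (hij : i ≠ j) (hi : i < a) (hj : j < a)
    {Φ : (F × F → k) →ₗ[k] (I27 → k)} (hΦ : Hm ι (Rr ρ ψ) (1 * 3 ^ i + 1 * 3 ^ j) Φ) :
    ∃ Ψ : (F × F → k) →ₗ[k] (I27 → k), Hm ι (Rr ρ' ψ) (2 * 3 ^ i + 2 * 3 ^ j) Ψ ∧
      ∀ f ∈ Vb ι (1 * 3 ^ i + 1 * 3 ^ j), ∀ f' ∈ Vb ι (1 * 3 ^ i + 1 * 3 ^ j), cr (Φ f) (Φ f') = Ψ (f * f') := by
  have hF := f0.card
  have hQ := pair_lt_Q ha hij hi hj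
  have hQ1 : 1 * 3 ^ i + 1 * 3 ^ j ≤ Fintype.card F - 1 := by rw [hF]; omega
  have hQ2 : 2 * 3 ^ i + 2 * 3 ^ j ≤ Fintype.card F - 1 := by rw [hF]; omega
  obtain ⟨m11, m10, m01, m00⟩ := e_mem ι hF ha hij hi hj
  -- the group action
  have hw11 : fRep k F w (xi ι 3 i * xi ι 3 j) = et ι 3 i * et ι 3 j := by
    rw [fRep_mul, fRep_w_xi, fRep_w_xi, neg_mul_neg]
  have hw00 : fRep k F w (et ι 3 i * et ι 3 j) = xi ι 3 i * xi ι 3 j := by
    rw [fRep_mul, fRep_w_et, fRep_w_et]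
  have hu11 : ∀ t, fRep k F (u t) (xi ι 3 i * xi ι 3 j) = xi ι 3 i * xi ι 3 j := fun t => by
    rw [fRep_mul, fRep_u_xi, fRep_u_xi]
  have hu00 : ∀ t, fRep k F (u t) (et ι 3 i * et ι 3 j) = et ι 3 i * et ι 3 j + (ι t ^ 3 ^ i) • (xi ι 3 i * et ι 3 j) +
      (ι t ^ 3 ^ j) • (et ι 3 i * xi ι 3 j) + (ι t ^ 3 ^ i * ι t ^ 3 ^ j) • (xi ι 3 i * xi ι 3 j) := fun t => by
    rw [fRep_mul, fRep_u_et, fRep_u_et]
    funext z
    simp only [Pi.add_apply, Pi.mul_apply, Pi.smul_apply, smul_eq_mul]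
    ring
  -- the coefficients
  let Cf : ((F × F → k) →ₗ[k] (F × F → k) →ₗ[k] (I27 → k)) → ℕ → ℕ → (I27 → k) := fun B r s =>
    match r, s with
    | 0, 0 => B (et ι 3 i * et ι 3 j) (et ι 3 i * et ι 3 j)
    | 1, 0 => B (et ι 3 i * et ι 3 j) (xi ι 3 i * et ι 3 j) + B (xi ι 3 i * et ι 3 j) (et ι 3 i * et ι 3 j)
    | 0, 1 => B (et ι 3 i * et ι 3 j) (et ι 3 i * xi ι 3 j) + B (et ι 3 i * xi ι 3 j) (et ι 3 i * et ι 3 j)
    | 1, 1 => B (et ι 3 i * et ι 3 j) (xi ι 3 i * xi ι 3 j) + B (xi ι 3 i * xi ι 3 j) (et ι 3 i * et ι 3 j) +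
        B (xi ι 3 i * et ι 3 j) (et ι 3 i * xi ι 3 j) + B (et ι 3 i * xi ι 3 j) (xi ι 3 i * et ι 3 j)
    | 2, 0 => B (xi ι 3 i * et ι 3 j) (xi ι 3 i * et ι 3 j)
    | 0, 2 => B (et ι 3 i * xi ι 3 j) (et ι 3 i * xi ι 3 j)
    | 2, 1 => B (xi ι 3 i * xi ι 3 j) (xi ι 3 i * et ι 3 j) + B (xi ι 3 i * et ι 3 j) (xi ι 3 i * xi ι 3 j)
    | 1, 2 => B (xi ι 3 i * xi ι 3 j) (et ι 3 i * xi ι 3 j) + B (et ι 3 i * xi ι 3 j) (xi ι 3 i * xi ι 3 j)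
    | 2, 2 => B (xi ι 3 i * xi ι 3 j) (xi ι 3 i * xi ι 3 j)
    | _, _ => 0
  have hCf : ∀ (B : (F × F → k) →ₗ[k] (F × F → k) →ₗ[k] (I27 → k)) (t : F),
      B (fRep k F (u t) (et ι 3 i * et ι 3 j)) (fRep k F (u t) (et ι 3 i * et ι 3 j)) =
      ∑ r ∈ Finset.range 3, ∑ s ∈ Finset.range 3, ((ι t ^ 3 ^ i) ^ r * (ι t ^ 3 ^ j) ^ s) • Cf B r s := by
    intro B t
    rw [hu00]
    simp only [Finset.sum_range_succ, Finset.sum_range_zero, zero_add, Cf, map_add, map_smul, LinearMap.add_apply,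
      LinearMap.smul_apply, pow_zero, pow_one, mul_one, one_mul, one_smul]
    module
  -- the bilinear form
  let B1 : (F × F → k) →ₗ[k] (F × F → k) →ₗ[k] (I27 → k) := (crB k).compl₁₂ Φ Φ
  have hB1 : ∀ f f', B1 f f' = cr (Φ f) (Φ f') := fun f f' => rfl
  obtain ⟨Ψ, hΨ1, hΨ2⟩ := exists_Hm (r := Rr ρ' ψ) ι 3 hF (c := 2 * 3 ^ i + 2 * 3 ^ j) (by rw [hF]; exact hQ)
    (y := B1 (xi ι 3 i * xi ι 3 j) (xi ι 3 i * xi ι 3 j)) (fun t => by
      rw [hB1, cr_eqv f0.pair hΦ hΦ _ m11 m11, hu11]) (fun c => by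
      have h1 := hΦ.wt m11 (wt11 ι i j)
      have h2 : ρ (ψ (h c)) (Φ (xi ι 3 i * xi ι 3 j)) = _ := h1 c
      rw [hB1]
      have h3 := pair_cr f0.pair (ψ (h c)) (Φ (xi ι 3 i * xi ι 3 j)) (Φ (xi ι 3 i * xi ι 3 j))
      rw [Rr_apply, ← h3, h2, cr_smul_left, cr_smul_right, smul_smul]
      congr 1
      rw [pow_zero, mul_one, ← pow_add]
      congr 1
      ring)
    (J := Finset.range 3 ×ˢ Finset.range 3) (e := fun x => x.1 * 3 ^ i + x.2 * 3 ^ j) (z := fun x => Cf B1 x.1 x.2)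
    (fun t => by
      rw [hB1, cr_eqv f0.pair hΦ hΦ _ m11 m11, hw11, cr_eqv f0.pair hΦ hΦ _ m00 m00, ← hB1, hCf, Finset.sum_product]
      refine Finset.sum_congr rfl fun r _ => Finset.sum_congr rfl fun s _ => ?_
      show _ = ι t ^ (r * 3 ^ i + s * 3 ^ j) • Cf B1 r s
      rw [pow_add, mul_comm r, mul_comm s, pow_mul, pow_mul])
    (by
      rintro ⟨r, s⟩ h1 h2 h3
      exfalso
      rw [Finset.mem_product, Finset.mem_range, Finset.mem_range] at h1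
      have h4 : r * 3 ^ i ≤ 2 * 3 ^ i := Nat.mul_le_mul_right _ (by have := h1.1; omega)
      have h5 : s * 3 ^ j ≤ 2 * 3 ^ j := Nat.mul_le_mul_right _ (by have := h1.2; omega)
      have h6 : (r * 3 ^ i + s * 3 ^ j) % (Fintype.card F - 1) = 0 := h3
      rw [Nat.mod_eq_of_lt (by rw [hF]; omega)] at h6
      exact h2 h6)
    (by
      rintro s' hs' hlt ⟨r, s⟩ h1 h3
      exfalso
      rw [Finset.mem_product, Finset.mem_range, Finset.mem_range] at h1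
      rw [dgt3 hij (by norm_num) (by norm_num)] at hlt
      have hs1 : s' ≠ i := by rintro rfl; rw [if_pos rfl] at hlt; omega
      have hs2 : s' ≠ j := by rintro rfl; rw [if_neg hs1, if_pos rfl] at hlt; omega
      have h4 : r * 3 ^ i ≤ 2 * 3 ^ i := Nat.mul_le_mul_right _ (by have := h1.1; omega)
      have h5 : s * 3 ^ j ≤ 2 * 3 ^ j := Nat.mul_le_mul_right _ (by have := h1.2; omega)
      have h6 : (r * 3 ^ i + s * 3 ^ j) % (Fintype.card F - 1) = en 3 (2 * 3 ^ i + 2 * 3 ^ j) s' % (Fintype.card F - 1) := h3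
      have h7 : en 3 (2 * 3 ^ i + 2 * 3 ^ j) s' = 1 * 3 ^ s' := by
        unfold en
        rw [dgt3 hij (by norm_num) (by norm_num), if_neg hs1, if_neg hs2]
      have h8 : 1 * 3 ^ s' + 0 * 3 ^ i < Fintype.card F - 1 := by
        have := pair_lt_Q ha hs1 hs' hi
        rw [hF]
        omega
      rw [h7, Nat.mod_eq_of_lt (by rw [hF]; omega), Nat.mod_eq_of_lt (by omega)] at h6
      have h9 := dgt3 (l := s') hij h1.1 h1.2
      rw [h6, if_neg hs1, if_neg hs2, dg_single (by norm_num) (by norm_num), if_pos rfl] at h9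
      omega)
  refine ⟨Ψ, hΨ1, ?_⟩
  -- the difference
  let B0 : (F × F → k) →ₗ[k] (F × F → k) →ₗ[k] (I27 → k) := B1 - (LinearMap.mul k (F × F → k)).compr₂ Ψ
  have hB0 : ∀ f f', B0 f f' = cr (Φ f) (Φ f') - Ψ (f * f') := fun f f' => rfl
  have heq : ∀ g, ∀ f ∈ Vb ι (1 * 3 ^ i + 1 * 3 ^ j), ∀ f' ∈ Vb ι (1 * 3 ^ i + 1 * 3 ^ j),
      B0 (fRep k F g f) (fRep k F g f') = Rr ρ' ψ g (B0 f f') := by
    intro g f hf f' hf'
    rw [hB0, hB0, map_sub, cr_eqv f0.pair hΦ hΦ _ hf hf', ← fRep_mul, hΨ1 g _ (mul_mem ι hF ha hij hi hj hf hf')]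
  have hsym : ∀ f f', B0 f f' = B0 f' f := fun f f' => by rw [hB0, hB0, cr_comm, mul_comm]
  have htop : B0 (xi ι 3 i * xi ι 3 j) (xi ι 3 i * xi ι 3 j) = 0 := by
    rw [hB0, ← hB1, ← top_eq2, hΨ2, sub_self]
  have hC := coeff2 ι hF ha hij hi hj (C := Cf B0) (fun t => by
    rw [← hCf, ← hw11, heq _ _ (inv_Vb' ι 3 hQ1 w _ m11) _ (inv_Vb' ι 3 hQ1 w _ m11), heq _ _ m11 _ m11, htop, map_zero,
      map_zero])
  have h2 := two_ne (k := k)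
  have c1 : B0 (xi ι 3 i * xi ι 3 j) (xi ι 3 i * et ι 3 j) = 0 := by
    have h1 : B0 (xi ι 3 i * xi ι 3 j) (xi ι 3 i * et ι 3 j) + B0 (xi ι 3 i * et ι 3 j) (xi ι 3 i * xi ι 3 j) = 0 :=
      hC 2 (by norm_num) 1 (by norm_num)
    rw [hsym (xi ι 3 i * et ι 3 j), ← two_smul k, smul_eq_zero] at h1
    exact h1.resolve_left h2
  have c2 : B0 (xi ι 3 i * xi ι 3 j) (et ι 3 i * xi ι 3 j) = 0 := by
    have h1 : B0 (xi ι 3 i * xi ι 3 j) (et ι 3 i * xi ι 3 j) + B0 (et ι 3 i * xi ι 3 j) (xi ι 3 i * xi ι 3 j) = 0 :=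
      hC 1 (by norm_num) 2 (by norm_num)
    rw [hsym (et ι 3 i * xi ι 3 j), ← two_smul k, smul_eq_zero] at h1
    exact h1.resolve_left h2
  have c3 : B0 (xi ι 3 i * xi ι 3 j) (et ι 3 i * et ι 3 j) = 0 := by
    refine f0.fix' _ (fix_of ?_ ?_ ?_)
    · intro t
      rw [← heq _ _ m11 _ m00, hu11, hu00, map_add, map_add, map_add, map_smul, map_smul, map_smul, c1, c2, htop,
        smul_zero, smul_zero, smul_zero, add_zero, add_zero, add_zero]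
    · intro c
      have h1 := wt11 ι i j c
      have h3 := wt00 ι i j c
      rw [← heq _ _ m11 _ m00, h1, h3, map_smul, map_smul, LinearMap.smul_apply, smul_smul, pow_zero, pow_zero, mul_one,
        one_mul, inv_pow, inv_mul_cancel₀ (pow_ne_zero _ (iota_ne c)), one_smul]
    · rw [← heq _ _ m11 _ m00, hw11, hw00, hsym]
  have hall := gen_zero (ι := ι) (r := Rr ρ' ψ) (b := 1 * 3 ^ i + 1 * 3 ^ j) (b' := 1 * 3 ^ i + 1 * 3 ^ j) (B := B0) heq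
    (inv_Vb' ι 3 hQ1) (top_mem ι 3 hQ1) (top_mem ι 3 hQ1) (by rw [top_eq, hw11, c3])
  intro f hf f' hf'
  have := hall f hf f' hf'
  rw [hB0, sub_eq_zero] at this
  exact this

/-- **the cubic form vanishes** -/
theorem N_eleven (f0 : Fra 3 a ψ ρ ρ') (ha : 3 ≤ a) {i j : ℕ} (hij : i ≠ j) (hi : i < a) (hj : j < a)
    {Φ : (F × F → k) →ₗ[k] (I27 → k)} (hΦ : Hm ι (Rr ρ ψ) (1 * 3 ^ i + 1 * 3 ^ j) Φ) :
    ∀ f ∈ Vb ι (1 * 3 ^ i + 1 * 3 ^ j), cubicT (Φ f) = 0 := by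
  have hF := f0.card
  have hQ := pair_lt_Q ha hij hi hj
  have hQ1 : 1 * 3 ^ i + 1 * 3 ^ j ≤ Fintype.card F - 1 := by rw [hF]; omega
  obtain ⟨m11, m10, m01, m00⟩ := e_mem ι hF ha hij hi hj
  have hi' := inv_Vb' ι 3 hQ1
  have hT := gen_tri (Trr_inv f0.pair hΦ hΦ hΦ) hi' hi' (top_mem ι 3 hQ1) (top_mem ι 3 hQ1) (by
    intro f hf
    rw [top_eq, fRep_mul, fRep_w_xi, fRep_w_xi, neg_mul_neg]
    refine Vb_le_bf ι 3 hij (by norm_num : 1 < 3) (by norm_num : 1 < 3)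
      (P := fun f => Trr Φ Φ Φ (xi ι 3 i * xi ι 3 j) (et ι 3 i * et ι 3 j) f = 0) ?_ ?_ ?_ ?_ hf
    · rw [map_zero]
    · intro f f' h1 h2
      rw [map_add, h1, h2, add_zero]
    · intro c f h1
      rw [map_smul, h1, smul_zero]
    · intro x hx y hy
      refine Trr_wt f0.pair hΦ hΦ hΦ m11 m00 (bf_mem ι 3 hij (by norm_num) (by norm_num) hQ1 hx hy) (wt11 ι i j)
        (wt00 ι i j) (bf_wt ι 3 i j 1 1 x y) ?_
      have e1 : 1 * 3 ^ i + 1 * 3 ^ j + 0 + (x * 3 ^ i + y * 3 ^ j) = (1 + x) * 3 ^ i + (1 + y) * 3 ^ j := by ring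
      have e2 : 0 + (1 * 3 ^ i + 1 * 3 ^ j) + ((1 - x) * 3 ^ i + (1 - y) * 3 ^ j) =
          (1 + (1 - x)) * 3 ^ i + (1 + (1 - y)) * 3 ^ j := by ring
      rw [e1, e2]
      have h3 : ∀ {r s : ℕ}, r ≤ 2 → s ≤ 2 → r * 3 ^ i + s * 3 ^ j < Fintype.card F - 1 := by
        intro r s hr hs
        have h2 : r * 3 ^ i ≤ 2 * 3 ^ i := Nat.mul_le_mul_right _ (by omega)
        have h3 : s * 3 ^ j ≤ 2 * 3 ^ j := Nat.mul_le_mul_right _ (by omega)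
        rw [hF]
        omega
      rw [Nat.mod_eq_of_lt (h3 (by omega) (by omega)), Nat.mod_eq_of_lt (h3 (by omega) (by omega))]
      intro h4
      have := rs_inj hij (by omega) (by omega) (by omega) (by omega) h4
      omega)
  refine N_zero f0.pair hΦ hi' (top_mem ι 3 hQ1) hT ?_
  rw [top_eq]
  have w1 := hΦ.wt m11 (wt11 ι i j)
  refine N_wt (ι := ι) (ψ := ψ) (m := 1 * 3 ^ i + 1 * 3 ^ j) f0.pair (fun c => ?_) ?_
  · rw [w1 c, pow_zero, mul_one]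
  · rw [Nat.mod_eq_of_lt (by rw [hF]; omega)]
    have := Nat.pow_pos (n := i) (show 0 < 3 by norm_num)
    omega

end Main

end Cfsg.Agent.R2.P3
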