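import Cfsg.Agent.R2.P3.TT

/-!
# The product on a submodule of type `22` (R2/P3, helper17), `p = 3`

`star` : if all irreducible submodules of `V'` have type `22` then `cr (Φ (u v)) (Φ (u' v'))` is alternating in `u, u'` and in
`v, v'`.
-/

set_option autoImplicit false
set_option linter.unusedSectionVars false

namespace Cfsg.Agent.R2.P3

open Matrix Cfsg.Agent.H943.SL2Rel Cfsg.Agent.H943.SL2Mod Cfsg.Agent.H943.RepAdd Cfsg.Agent.R2.H28.SL2
open Cfsg.Lie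
open Cfsg.Agent.ChevalleyStructure.E6Min.Basic (Zgrp)
open Cfsg.Agent.H952.F4 (sh cr tf)
open Cfsg.Agent.H952.F4.Jord
open Cfsg.Agent.R2.GEO (Pair crB crB_apply tfB tfB_apply)
open scoped TensorProduct

universe u v v' w

section Quad

variable {k : Type*} [Field k] [DecidableEq k] {A : Type*} [CommRing A] [Algebra k A] {W : Type*} [AddCommGroup W] [Module k W]

/-- the form `B (u v) (u' v') + B (u v') (u' v)` for fixed `u, u'` -/
def M2 (B : A →ₗ[k] A →ₗ[k] W) (u u' : A) : A →ₗ[k] A →ₗ[k] W :=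
  B.compl₁₂ (LinearMap.mulLeft k u) (LinearMap.mulLeft k u') + (B.compl₁₂ (LinearMap.mulLeft k u) (LinearMap.mulLeft k u')).flip

theorem M2_apply (B : A →ₗ[k] A →ₗ[k] W) (u u' v v' : A) :
    M2 B u u' v v' = B (u * v) (u' * v') + B (u * v') (u' * v) := rfl

variable {B : A →ₗ[k] A →ₗ[k] W} (hs : ∀ x y, B x y = B y x) {X : Type*} [AddCommGroup X] [Module k X] (px : X →ₗ[k] A)
  {Y : Type*} [AddCommGroup Y] [Module k Y] (py : Y →ₗ[k] A)

include hs in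
theorem M2_s1 (u u' v v' : A) : M2 B u' u v v' = M2 B u u' v v' := by
  rw [M2_apply, M2_apply, hs (u' * v) (u * v'), hs (u' * v') (u * v), add_comm]

theorem M2_s2 (u u' v v' : A) : M2 B u u' v' v = M2 B u u' v v' := by
  rw [M2_apply, M2_apply, add_comm]

theorem P2_alt (u u' : A) : Alt k Y ≤ LinearMap.ker (TensorProduct.lift ((M2 B u u').compl₁₂ py py)) := by
  unfold Alt
  refine Submodule.span_le.2 ?_
  rintro _ ⟨x, y, rfl⟩
  rw [SetLike.mem_coe, LinearMap.mem_ker, map_sub, TensorProduct.lift.tmul, TensorProduct.lift.tmul,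
    LinearMap.compl₁₂_apply, LinearMap.compl₁₂_apply, M2_s2, sub_self]

/-- the map on `S² Y` for fixed `u, u'` -/
noncomputable def P2 (B : A →ₗ[k] A →ₗ[k] W) (u u' : A) : ((Y ⊗[k] Y) ⧸ Alt k Y) →ₗ[k] W :=
  (Alt k Y).liftQ (TensorProduct.lift ((M2 B u u').compl₁₂ py py)) (P2_alt py u u')

theorem P2_apply (u u' : A) (v v' : Y) : P2 py B u u' ((Alt k Y).mkQ (v ⊗ₜ v')) = M2 B u u' (py v) (py v') := by
  unfold P2
  rw [Submodule.mkQ_apply, Submodule.liftQ_apply, TensorProduct.lift.tmul]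
  rfl

theorem P2_ext {f g : ((Y ⊗[k] Y) ⧸ Alt k Y) →ₗ[k] W}
    (h : ∀ v v' : Y, f ((Alt k Y).mkQ (v ⊗ₜ v')) = g ((Alt k Y).mkQ (v ⊗ₜ v'))) : f = g := by
  apply Submodule.linearMap_qext
  apply TensorProduct.ext'
  exact h

/-- the map `X ⊗ X → Hom(S² Y, W)` -/
noncomputable def Q2 (B : A →ₗ[k] A →ₗ[k] W) : (X ⊗[k] X) →ₗ[k] ((Y ⊗[k] Y) ⧸ Alt k Y) →ₗ[k] W :=
  TensorProduct.lift (LinearMap.mk₂ k (fun u u' : X => P2 py B (px u) (px u'))
    (fun u₁ u₂ u' => P2_ext fun v v' => by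
      rw [LinearMap.add_apply, P2_apply, P2_apply, P2_apply, M2_apply, M2_apply, M2_apply, map_add px, add_mul, add_mul,
        map_add, map_add, LinearMap.add_apply, LinearMap.add_apply]
      abel)
    (fun c u u' => P2_ext fun v v' => by
      rw [LinearMap.smul_apply, P2_apply, P2_apply, M2_apply, M2_apply, map_smul px, smul_mul_assoc, smul_mul_assoc,
        map_smul, map_smul, LinearMap.smul_apply, LinearMap.smul_apply, smul_add])
    (fun u u₁ u₂ => P2_ext fun v v' => by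
      rw [LinearMap.add_apply, P2_apply, P2_apply, P2_apply, M2_apply, M2_apply, M2_apply, map_add px, add_mul, add_mul,
        map_add, map_add]
      abel)
    (fun c u u' => P2_ext fun v v' => by
      rw [LinearMap.smul_apply, P2_apply, P2_apply, M2_apply, M2_apply, map_smul px, smul_mul_assoc, smul_mul_assoc,
        map_smul, map_smul, smul_add]))

theorem Q2_apply (u u' : X) (v v' : Y) :
    Q2 px py B (u ⊗ₜ u') ((Alt k Y).mkQ (v ⊗ₜ v')) = M2 B (px u) (px u') (py v) (py v') := by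
  unfold Q2
  rw [TensorProduct.lift.tmul, LinearMap.mk₂_apply, P2_apply]

include hs in
theorem Q2_alt : Alt k X ≤ LinearMap.ker (Q2 px py B) := by
  refine (Submodule.span_le (p := LinearMap.ker (Q2 px py B))).2 ?_
  rintro _ ⟨x, y, rfl⟩
  rw [SetLike.mem_coe, LinearMap.mem_ker, map_sub, sub_eq_zero]
  refine P2_ext fun v v' => ?_
  rw [Q2_apply, Q2_apply, M2_s1 hs]

theorem T2_ext {f g : (((X ⊗[k] X) ⧸ Alt k X) ⊗[k] ((Y ⊗[k] Y) ⧸ Alt k Y)) →ₗ[k] W}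
    (h : ∀ (u u' : X) (v v' : Y), f ((Alt k X).mkQ (u ⊗ₜ u') ⊗ₜ (Alt k Y).mkQ (v ⊗ₜ v')) =
      g ((Alt k X).mkQ (u ⊗ₜ u') ⊗ₜ (Alt k Y).mkQ (v ⊗ₜ v'))) : f = g := by
  apply TensorProduct.ext
  apply Submodule.linearMap_qext
  apply TensorProduct.ext'
  intro x x'
  apply P2_ext
  intro y y'
  exact h x x' y y'

theorem Sq_mk {G : Type*} [Group G] (σ : Representation k G X) (g : G) (x x' : X) :
    Sq σ g ((Alt k X).mkQ (x ⊗ₜ x')) = (Alt k X).mkQ (σ g x ⊗ₜ σ g x') := by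
  unfold Sq
  rw [quotRep_mk]
  rfl

include hs in
/-- the map `S² X ⊗ S² Y → W` -/
theorem exists_T2 {G : Type*} [Group G] {σ : Representation k G X} {σ' : Representation k G Y} {r : Representation k G W}
    (he : ∀ g x x' y y', B (px (σ g x) * py (σ' g y)) (px (σ g x') * py (σ' g y')) = r g (B (px x * py y) (px x' * py y'))) :
    ∃ T : (((X ⊗[k] X) ⧸ Alt k X) ⊗[k] ((Y ⊗[k] Y) ⧸ Alt k Y)) →ₗ[k] W,
    (∀ (u u' : X) (v v' : Y), T ((Alt k X).mkQ (u ⊗ₜ u') ⊗ₜ (Alt k Y).mkQ (v ⊗ₜ v')) =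
      M2 B (px u) (px u') (py v) (py v')) ∧ ∀ g z, T ((Sq σ).tprod (Sq σ') g z) = r g (T z) := by
  have h1 : ∀ (u u' : X) (v v' : Y), TensorProduct.lift ((Alt k X).liftQ (Q2 px py B) (Q2_alt hs px py))
      ((Alt k X).mkQ (u ⊗ₜ u') ⊗ₜ (Alt k Y).mkQ (v ⊗ₜ v')) = M2 B (px u) (px u') (py v) (py v') := by
    intro u u' v v'
    rw [TensorProduct.lift.tmul, Submodule.mkQ_apply (Alt k X), Submodule.liftQ_apply, Q2_apply]
  refine ⟨TensorProduct.lift ((Alt k X).liftQ (Q2 px py B) (Q2_alt hs px py)), h1, ?_⟩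
  intro g
  have h2 : TensorProduct.lift ((Alt k X).liftQ (Q2 px py B) (Q2_alt hs px py)) ∘ₗ (Sq σ).tprod (Sq σ') g =
      r g ∘ₗ TensorProduct.lift ((Alt k X).liftQ (Q2 px py B) (Q2_alt hs px py)) := by
    refine T2_ext fun u u' v v' => ?_
    rw [LinearMap.comp_apply, LinearMap.comp_apply, h1, Representation.tprod_apply, TensorProduct.map_tmul, Sq_mk, Sq_mk, h1,
      M2_apply, M2_apply, he, he, map_add]
  exact fun z => LinearMap.congr_fun h2 z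

end Quad

section Main

variable {k : Type u} [Field k] [DecidableEq k] [IsAlgClosed k] {F : Type w} [Field F] [Fintype F] [DecidableEq F]
  {ι : F →+* k} [CharP k 3] [CharP F 3] {a : ℕ}
variable {ψ : SpecialLinearGroup (Fin 2) F →* ↥(Zgrp k)} {ρ ρ' : Representation k ↥(Zgrp k) (I27 → k)}

/-- `V_{2 3^i}` is spanned by the monomials -/
theorem Vb_le_two {i : ℕ} {P : (F × F → k) → Prop}
    (h0 : P 0) (ha : ∀ f f', P f → P f' → P (f + f')) (hs : ∀ (c : k) f, P f → P (c • f))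
    (hb : ∀ x ≤ 2, P (xi ι 3 i ^ x * et ι 3 i ^ (2 - x))) {f : F × F → k} (hf : f ∈ Vb ι (2 * 3 ^ i)) : P f := by
  have hf' : f ∈ Vb ι (2 * 3 ^ i + 0 * 3 ^ (i + 1)) := by
    rw [zero_mul, add_zero]
    exact hf
  refine Vb_le_bf ι 3 (show i ≠ i + 1 by omega) (by norm_num : 2 < 3) (by norm_num : 0 < 3) h0 ha hs ?_ hf'
  intro x hx y hy
  obtain rfl : y = 0 := by omega
  have h1 : bf ι 3 i (i + 1) 2 0 x 0 = xi ι 3 i ^ x * et ι 3 i ^ (2 - x) := by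
    unfold bf
    rw [pow_zero, Nat.sub_self, pow_zero, mul_one, mul_one]
  rw [h1]
  exact hb x hx

theorem two_mem {i : ℕ} (hq : 2 * 3 ^ i ≤ Fintype.card F - 1) {x : ℕ} (hx : x ≤ 2) :
    xi ι 3 i ^ x * et ι 3 i ^ (2 - x) ∈ Vb ι (2 * 3 ^ i) := by
  have h := bf_mem ι 3 (show i ≠ i + 1 by omega) (show 2 < 3 by norm_num) (show 0 < 3 by norm_num) (i := i) (j := i + 1)
    (by rw [zero_mul, add_zero]; exact hq) hx (le_refl 0)
  rw [zero_mul, add_zero] at h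
  have h1 : bf ι 3 i (i + 1) 2 0 x 0 = xi ι 3 i ^ x * et ι 3 i ^ (2 - x) := by
    unfold bf
    rw [pow_zero, Nat.sub_self, pow_zero, mul_one, mul_one]
  rwa [h1] at h

theorem mul_mem2 {i j : ℕ} (hF : Fintype.card F = 3 ^ a) (ha : 3 ≤ a) (hij : i ≠ j) (hi : i < a) (hj : j < a)
    {f f' : F × F → k} (hf : f ∈ Vb ι (2 * 3 ^ i)) (hf' : f' ∈ Vb ι (2 * 3 ^ j)) :
    f * f' ∈ Vb ι (2 * 3 ^ i + 2 * 3 ^ j) := by
  have h1 := pair_lt_Q ha hij hi hj
  have hb : 2 * 3 ^ i + 2 * 3 ^ j ≤ Fintype.card F - 1 := by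
    rw [hF]
    omega
  refine Vb_le_two (ι := ι) (i := i) (P := fun f => f * f' ∈ _) ?_ ?_ ?_ ?_ hf
  · rw [zero_mul]
    exact zero_mem _
  · intro f g h1 h2
    rw [add_mul]
    exact add_mem h1 h2
  · intro c f h
    rw [smul_mul_assoc]
    exact Submodule.smul_mem _ _ h
  · intro x hx
    refine Vb_le_two (ι := ι) (i := j) (P := fun f' => xi ι 3 i ^ x * et ι 3 i ^ (2 - x) * f' ∈ _) ?_ ?_ ?_ ?_ hf'
    · rw [mul_zero]
      exact zero_mem _
    · intro f g h1 h2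
      rw [mul_add]
      exact add_mem h1 h2
    · intro c f h
      rw [mul_smul_comm]
      exact Submodule.smul_mem _ _ h
    · intro y hy
      exact bf_mem ι 3 hij (by norm_num) (by norm_num) hb hx hy

/-- all irreducible submodules have no digit `1` -/
def No1 (ι : F →+* k) (r : Representation k (SpecialLinearGroup (Fin 2) F) (I27 → k)) : Prop :=
  ∀ c, InSoc ι 3 r c → ∀ l, c / 3 ^ l % 3 ≠ 1

/-- **the product on a submodule of type `22`** -/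
theorem star (f0 : Fra 3 a ψ ρ ρ') (ha : 3 ≤ a) {i j : ℕ} (hij : i ≠ j) (hi : i < a) (hj : j < a)
    (hn : No1 ι (Rr ρ' ψ)) {Φ : (F × F → k) →ₗ[k] (I27 → k)} (hΦ : Hm ι (Rr ρ ψ) (2 * 3 ^ i + 2 * 3 ^ j) Φ)
    {x x' y y' : F × F → k} (hx : x ∈ Vb ι (2 * 3 ^ i)) (hx' : x' ∈ Vb ι (2 * 3 ^ i)) (hy : y ∈ Vb ι (2 * 3 ^ j))
    (hy' : y' ∈ Vb ι (2 * 3 ^ j)) :
    cr (Φ (x * y)) (Φ (x' * y')) + cr (Φ (x * y')) (Φ (x' * y)) = 0 := by
  have hF := f0.card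
  have hQ := pair_lt_Q ha hij hi hj
  have hqi : 2 * 3 ^ i ≤ Fintype.card F - 1 := by rw [hF]; omega
  have hqj : 2 * 3 ^ j ≤ Fintype.card F - 1 := by rw [hF]; omega
  have hVi : IsV ι 3 (RB ι 3 hqi) (2 * 3 ^ i) := ⟨hqi, LinearEquiv.refl k _, fun _ _ => rfl⟩
  have hVj : IsV ι 3 (RB ι 3 hqj) (2 * 3 ^ j) := ⟨hqj, LinearEquiv.refl k _, fun _ _ => rfl⟩
  have hfi := hVi.finite
  have hfj := hVj.finite
  obtain ⟨T, hT, hTe⟩ := exists_T2 (k := k) (B := (crB k).compl₁₂ Φ Φ) (fun _ _ => cr_comm _ _) (Vb ι (2 * 3 ^ i)).subtype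
    (Vb ι (2 * 3 ^ j)).subtype (σ := RB ι 3 hqi) (σ' := RB ι 3 hqj) (r := Rr ρ' ψ) (fun g x x' y y' =>
      (cr_eqv f0.pair hΦ hΦ g (mul_mem2 hF ha hij hi hj x.2 y.2) (mul_mem2 hF ha hij hi hj x'.2 y'.2)).symm)
  have hT0 : T = 0 := by
    by_contra h0
    obtain ⟨c, hc1, hc2⟩ := soc_of_map ι 3 (ρ := Rr ρ' ψ) T hTe h0
    rcases cf_TT ι hF ha hij hi hj hVi hVj c hc1 with h | ⟨l, hl⟩
    · exact f0.swap.soc_ne_zero ι hc2 h
    · exact hn c hc2 l hl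
  have h1 := hT ⟨x, hx⟩ ⟨x', hx'⟩ ⟨y, hy⟩ ⟨y', hy'⟩
  rw [hT0, LinearMap.zero_apply] at h1
  exact h1.symm

end Main

end Cfsg.Agent.R2.P3
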