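import Cfsg.Agent.R2.P3.Chi

/-!
# The factors of `S² V_{2 3^i} ⊗ S² V_{2 3^j}` (R2/P3, helper17)

`cf_TT` : every factor is trivial or has a digit `1`.
-/

set_option autoImplicit false
set_option linter.unusedSectionVars false

namespace Cfsg.Agent.R2.P3

open Matrix Cfsg.Agent.H943.SL2Rel Cfsg.Agent.H943.SL2Mod Cfsg.Agent.H943.RepAdd Cfsg.Agent.R2.H28.SL2
open scoped TensorProduct

universe u v v' w

theorem lt_of_dg {p a b : ℕ} (hp : 1 < p) (h : ∀ l, a ≤ l → b / p ^ l % p = 0) : b < p ^ a := by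
  by_contra hb
  have hb : p ^ a ≤ b := not_lt.1 hb
  have hb0 : b ≠ 0 := by
    rintro rfl
    have := Nat.pow_pos (n := a) (show 0 < p by omega)
    omega
  have h1 := h (Nat.log p b) ((Nat.le_log_iff_pow_le hp hb0).2 hb)
  have h2 : b / p ^ (Nat.log p b) < p := by
    rw [Nat.div_lt_iff_lt_mul (Nat.pow_pos (by omega)), ← pow_succ']
    exact Nat.lt_pow_succ_log_self hp b
  rw [Nat.mod_eq_of_lt h2] at h1
  have h3 := Nat.div_pos (Nat.pow_log_le_self p hb0) (Nat.pow_pos (n := Nat.log p b) (by omega))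
  omega

section

variable {k : Type u} [Field k] [DecidableEq k] [IsAlgClosed k] {F : Type w} [Field F] [Fintype F] [DecidableEq F]
  (ι : F →+* k) [CharP k 3] [CharP F 3] {a : ℕ}

/-- the character of `S² V_{2 3^i}` -/
theorem cs_sqi {X : Type v} [AddCommGroup X] [Module k X] [FiniteDimensional k X]
    {σ : Representation k (SpecialLinearGroup (Fin 2) F) X} (hF : Fintype.card F = 3 ^ a) (ha : 3 ≤ a) {i : ℕ} (hi : i < a)
    (h : IsV ι 3 σ (2 * 3 ^ i)) {z : ℂ} (hz : Zs (3 ^ a) z) :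
    cs k (cf (Sy.{u, v, w} ι 3) (Sq σ)) z = chi 1 (z ^ 3 ^ i) * chi 1 (z ^ 3 ^ ((i + 1) % a)) + 2 := by
  have hz0 := hz.ne_zero (two_le_q 3 hF)
  have hi0 := pow_ne_zero (3 ^ i) hz0
  rw [cs_sq_single ι 3 hF (by norm_num) h hz, s2_two hi0]
  have h1 := chi_over 1 3 (by norm_num) hi0
  rw [chi_wrap (two_le_q 3 hF) 1 hi hz] at h1
  norm_num at h1
  rw [h1, chi_zero]
  ring

theorem chB11 {i j : ℕ} (hij : i ≠ j) (z : ℂ) : chB k (1 * 3 ^ i + 1 * 3 ^ j) z = chi 1 (z ^ 3 ^ i) * chi 1 (z ^ 3 ^ j) :=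
  chB_pair k 3 (by norm_num) (by norm_num) hij z

/-- the factors in terms of the character -/
theorem cf_TT_aux {W : Type v} [AddCommGroup W] [Module k W] [FiniteDimensional k W]
    {τ : Representation k (SpecialLinearGroup (Fin 2) F) W} (hF : Fintype.card F = 3 ^ a) {i i1 j j1 : ℕ}
    (hi : i < a) (hj : j < a) (hi1 : i1 < a) (hj1 : j1 < a) (h1 : i ≠ i1) (h2 : j ≠ j1) (h3 : i ≠ j) (h4 : i1 ≠ j1)
    (h5 : i ≠ j1)
    (hc : ∀ z, Zs (3 ^ a) z → cs k (cf (Sy.{u, v, w} ι 3) τ) z =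
      (chi 1 (z ^ 3 ^ i) * chi 1 (z ^ 3 ^ i1) + 2) * (chi 1 (z ^ 3 ^ j) * chi 1 (z ^ 3 ^ j1) + 2)) :
    ∀ c ∈ cf (Sy.{u, v, w} ι 3) τ, c = 0 ∨ ∃ l, c / 3 ^ l % 3 = 1 := by
  have p11 : ∀ {i j : ℕ}, i ≠ j → ∀ l, (1 * 3 ^ i + 1 * 3 ^ j) / 3 ^ l % 3 = if l = i then 1 else if l = j then 1 else 0 :=
    fun hij l => dgt3 hij (by norm_num) (by norm_num)
  have lt11 : ∀ {i j : ℕ}, i ≠ j → i < a → j < a → 1 * 3 ^ i + 1 * 3 ^ j < 3 ^ a := fun hij hi hj =>
    pair_lt_pow (by norm_num) hij (by norm_num) (by norm_num) hi hj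
  by_cases h6 : i1 = j
  · subst h6
    -- labels: `1 2 1`
    have hdis : ∀ l, (1 * 3 ^ i + 1 * 3 ^ j1) / 3 ^ l % 3 = 0 ∨ (2 * 3 ^ i1) / 3 ^ l % 3 = 0 := by
      intro l
      rw [p11 h5, dg_single (by norm_num) (by norm_num)]
      by_cases hl : l = i1
      · left
        rw [if_neg (by omega), if_neg (by omega)]
      · right
        rw [if_neg hl]
    have hS : cf (Sy.{u, v, w} ι 3) τ = {1 * 3 ^ i + 1 * 3 ^ j1 + 2 * 3 ^ i1, 1 * 3 ^ i + 1 * 3 ^ j1, 1 * 3 ^ i + 1 * 3 ^ i1,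
        1 * 3 ^ i + 1 * 3 ^ i1, 1 * 3 ^ i1 + 1 * 3 ^ j1, 1 * 3 ^ i1 + 1 * 3 ^ j1, 0, 0, 0, 0} := by
      refine cf_of_cs ι 3 hF ?_ fun z hz => ?_
      · intro b hb
        simp only [Multiset.insert_eq_cons, Multiset.mem_cons, Multiset.mem_singleton] at hb
        rcases hb with rfl | rfl | rfl | rfl | rfl | rfl | rfl | rfl | rfl | rfl
        · refine lt_of_dg (by norm_num) fun l hl => ?_
          rw [dg_add (by norm_num) l hdis, p11 h5, dg_single (by norm_num) (by norm_num), if_neg (by omega),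
            if_neg (by omega), if_neg (by omega)]
        · exact lt11 h5 hi hj1
        · exact lt11 h1 hi hi1
        · exact lt11 h1 hi hi1
        · exact lt11 h2 hi1 hj1
        · exact lt11 h2 hi1 hj1
        all_goals exact Nat.pow_pos (by norm_num)
      · have hz0 := hz.ne_zero (two_le_q 3 hF)
        have e1 := chi_mul_one 0 (pow_ne_zero (3 ^ i1) hz0)
        rw [zero_add, chi_zero] at e1
        simp only [Multiset.insert_eq_cons]
        rw [hc z hz, cs_cons, cs_cons, cs_cons, cs_cons, cs_cons, cs_cons, cs_cons, cs_cons, cs_cons, cs_singleton,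
          chB_disj k 3 _ le_rfl hdis, chB11 h5, chB11 h1, chB11 h2, chB_zero, chB_single k 3 (by norm_num)]
        linear_combination (chi 1 (z ^ 3 ^ i) * chi 1 (z ^ 3 ^ j1)) * e1
    intro c hc
    rw [hS] at hc
    simp only [Multiset.insert_eq_cons, Multiset.mem_cons, Multiset.mem_singleton] at hc
    rcases hc with rfl | rfl | rfl | rfl | rfl | rfl | rfl | rfl | rfl | rfl
    · refine Or.inr ⟨i, ?_⟩
      rw [dg_add (by norm_num) i hdis, p11 h5, dg_single (by norm_num) (by norm_num), if_pos rfl, if_neg h1]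
    · exact Or.inr ⟨i, by rw [p11 h5, if_pos rfl]⟩
    · exact Or.inr ⟨i, by rw [p11 h1, if_pos rfl]⟩
    · exact Or.inr ⟨i, by rw [p11 h1, if_pos rfl]⟩
    · exact Or.inr ⟨i1, by rw [p11 h2, if_pos rfl]⟩
    · exact Or.inr ⟨i1, by rw [p11 h2, if_pos rfl]⟩
    all_goals exact Or.inl rfl
  · have hdis : ∀ l, (1 * 3 ^ i + 1 * 3 ^ i1) / 3 ^ l % 3 = 0 ∨ (1 * 3 ^ j + 1 * 3 ^ j1) / 3 ^ l % 3 = 0 := by
      intro l
      rw [p11 h1, p11 h2]
      by_cases hl : l = i ∨ l = i1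
      · right
        rw [if_neg (by omega), if_neg (by omega)]
      · left
        rw [if_neg (by omega), if_neg (by omega)]
    have hS : cf (Sy.{u, v, w} ι 3) τ = {(1 * 3 ^ i + 1 * 3 ^ i1) + (1 * 3 ^ j + 1 * 3 ^ j1), 1 * 3 ^ i + 1 * 3 ^ i1,
        1 * 3 ^ i + 1 * 3 ^ i1, 1 * 3 ^ j + 1 * 3 ^ j1, 1 * 3 ^ j + 1 * 3 ^ j1, 0, 0, 0, 0} := by
      refine cf_of_cs ι 3 hF ?_ fun z hz => ?_
      · intro b hb
        simp only [Multiset.insert_eq_cons, Multiset.mem_cons, Multiset.mem_singleton] at hb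
        rcases hb with rfl | rfl | rfl | rfl | rfl | rfl | rfl | rfl | rfl
        · refine lt_of_dg (by norm_num) fun l hl => ?_
          rw [dg_add (by norm_num) l hdis, p11 h1, p11 h2, if_neg (by omega),
            if_neg (by omega), if_neg (by omega), if_neg (by omega)]
        · exact lt11 h1 hi hi1
        · exact lt11 h1 hi hi1
        · exact lt11 h2 hj hj1
        · exact lt11 h2 hj hj1
        all_goals exact Nat.pow_pos (by norm_num)
      · simp only [Multiset.insert_eq_cons]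
        rw [hc z hz, cs_cons, cs_cons, cs_cons, cs_cons, cs_cons, cs_cons, cs_cons, cs_cons, cs_singleton,
          chB_disj k 3 _ le_rfl hdis, chB11 h1, chB11 h2, chB_zero]
        ring
    intro c hc
    rw [hS] at hc
    simp only [Multiset.insert_eq_cons, Multiset.mem_cons, Multiset.mem_singleton] at hc
    rcases hc with rfl | rfl | rfl | rfl | rfl | rfl | rfl | rfl | rfl
    · refine Or.inr ⟨i, ?_⟩
      rw [dg_add (by norm_num) i hdis, p11 h1, p11 h2, if_pos rfl, if_neg h3, if_neg h5]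
    · exact Or.inr ⟨i, by rw [p11 h1, if_pos rfl]⟩
    · exact Or.inr ⟨i, by rw [p11 h1, if_pos rfl]⟩
    · exact Or.inr ⟨j, by rw [p11 h2, if_pos rfl]⟩
    · exact Or.inr ⟨j, by rw [p11 h2, if_pos rfl]⟩
    all_goals exact Or.inl rfl

theorem succ_mod_inj {a i j : ℕ} (hi : i < a) (hj : j < a) (h : (i + 1) % a = (j + 1) % a) : i = j := by
  rcases Nat.lt_or_ge (i + 1) a with h1 | h1 <;> rcases Nat.lt_or_ge (j + 1) a with h2 | h2
  · rw [Nat.mod_eq_of_lt h1, Nat.mod_eq_of_lt h2] at h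
    omega
  · rw [Nat.mod_eq_of_lt h1, show j + 1 = a by omega, Nat.mod_self] at h
    omega
  · rw [Nat.mod_eq_of_lt h2, show i + 1 = a by omega, Nat.mod_self] at h
    omega
  · omega

/-- **the factors of `S² V_{2 3^i} ⊗ S² V_{2 3^j}`** -/
theorem cf_TT {X : Type v} [AddCommGroup X] [Module k X] [FiniteDimensional k X]
    {σ : Representation k (SpecialLinearGroup (Fin 2) F) X} {Y : Type v} [AddCommGroup Y] [Module k Y]
    [FiniteDimensional k Y] {σ' : Representation k (SpecialLinearGroup (Fin 2) F) Y} (hF : Fintype.card F = 3 ^ a)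
    (ha : 3 ≤ a) {i j : ℕ} (hij : i ≠ j) (hi : i < a) (hj : j < a) (h : IsV ι 3 σ (2 * 3 ^ i))
    (h' : IsV ι 3 σ' (2 * 3 ^ j)) :
    ∀ c ∈ cf (Sy.{u, v, w} ι 3) ((Sq σ).tprod (Sq σ')), c = 0 ∨ ∃ l, c / 3 ^ l % 3 = 1 := by
  have hi1 : (i + 1) % a < a := Nat.mod_lt _ (by omega)
  have hj1 : (j + 1) % a < a := Nat.mod_lt _ (by omega)
  have hc : ∀ z, Zs (3 ^ a) z → cs k (cf (Sy.{u, v, w} ι 3) ((Sq σ).tprod (Sq σ'))) z =
      (chi 1 (z ^ 3 ^ i) * chi 1 (z ^ 3 ^ ((i + 1) % a)) + 2) * (chi 1 (z ^ 3 ^ j) * chi 1 (z ^ 3 ^ ((j + 1) % a)) + 2) := by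
    intro z hz
    rw [cs_tens ι 3 hF _ _ hz, cs_sqi ι hF ha hi h hz, cs_sqi ι hF ha hj h' hz]
  by_cases h5 : i = (j + 1) % a
  · refine cf_TT_aux ι hF hj hi hj1 hi1 (next_ne ha hj) (next_ne ha hi) hij.symm
      (fun h => hij (succ_mod_inj hi hj h.symm)) ?_ fun z hz => ?_
    · -- `j ≠ i + 1` since `a ≥ 3`
      intro h6
      rcases Nat.lt_or_ge (j + 1) a with h1 | h1
      · rw [Nat.mod_eq_of_lt h1] at h5
        rcases Nat.lt_or_ge (i + 1) a with h2 | h2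
        · rw [Nat.mod_eq_of_lt h2] at h6
          omega
        · rw [show i + 1 = a by omega, Nat.mod_self] at h6
          omega
      · rw [show j + 1 = a by omega, Nat.mod_self] at h5
        rcases Nat.lt_or_ge (i + 1) a with h2 | h2
        · rw [Nat.mod_eq_of_lt h2] at h6
          omega
        · omega
    · rw [hc z hz]
      ring
  · exact cf_TT_aux ι hF hi hj hi1 hj1 (next_ne ha hi) (next_ne ha hj) hij (fun h => hij (succ_mod_inj hi hj h)) h5 hc

end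

end Cfsg.Agent.R2.P3
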